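import Mathlib

/-!
# Two blocks of a transitive 2-group (project OMEGA, job 168)

`T` a 2-group acting on `Ω` through a relation `R t π`, preserving `Ω₀` and transitive on `Ω₀`, `|Ω₀| ≥ 2`:
there is `C ⊂ Ω₀`, `∅ ≠ C ≠ Ω₀`, such that `T` permutes `{C, Ω₀ \ C}` (`exists_blocks`).
-/

set_option autoImplicit false

namespace Cfsg.Agent.Omega.Half

open Subgroup

variable {G : Type*} [Group G]

/-- A proper subgroup of a 2-group lies in a subgroup of index 2. -/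
theorem exists_index_two [Finite G] {T A : Subgroup G} (hT : IsPGroup 2 T) (hAT : A ≤ T) (hne : ¬ T ≤ A) :
    ∃ K : Subgroup G, A ≤ K ∧ K ≤ T ∧ K.relIndex T = 2 := by
  have := Fact.mk Nat.prime_two
  obtain ⟨n, hn⟩ := IsPGroup.iff_card.1 hT
  have hH2 : IsPGroup 2 (A.subgroupOf T) := hT.to_subgroup _
  obtain ⟨m, hm⟩ := IsPGroup.iff_card.1 hH2
  have hlt : Nat.card (A.subgroupOf T) < Nat.card T := by
    refine lt_of_le_of_ne (Subgroup.card_le_card_group _) fun h => hne ?_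
    have h1 : A.subgroupOf T = ⊤ := Subgroup.eq_top_of_card_eq _ h
    exact Subgroup.subgroupOf_eq_top.1 h1
  have hmn : m < n := by
    rw [hm, hn] at hlt
    exact (Nat.pow_lt_pow_iff_right (by norm_num)).1 hlt
  obtain ⟨K, hK, hHK⟩ := Sylow.exists_subgroup_card_pow_prime_le (G := T) 2 (n := m) (m := n - 1)
    (by rw [hn]; exact pow_dvd_pow 2 (by omega)) (A.subgroupOf T) hm (by omega)
  have hidx : K.index = 2 := by
    have h1 := K.card_mul_index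
    rw [hK, hn] at h1
    have h2 : 2 ^ n = 2 ^ (n - 1) * 2 := by
      rw [← pow_succ]
      congr 1
      omega
    rw [h2] at h1
    exact Nat.eq_of_mul_eq_mul_left (by positivity) h1
  refine ⟨K.map T.subtype, ?_, ?_, ?_⟩
  · intro h hh
    exact ⟨⟨h, hAT hh⟩, hHK (by rw [Subgroup.mem_subgroupOf]; exact hh), rfl⟩
  · rintro _ ⟨k, _, rfl⟩
    exact k.2
  · rw [relIndex, ← hidx]
    congr 1
    exact Subgroup.comap_map_eq_self_of_injective T.subtype_injective K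

/-- Two elements outside a subgroup of index 2. -/
theorem mul_mem_of_index_two {T K : Subgroup G} (hK : K.relIndex T = 2) {a b : G} (ha : a ∈ T) (hb : b ∈ T) :
    a * b ∈ K ↔ (a ∈ K ↔ b ∈ K) := by
  have h := Subgroup.mul_mem_iff_of_index_two (H := K.subgroupOf T) hK (a := ⟨a, ha⟩) (b := ⟨b, hb⟩)
  simpa [mem_subgroupOf] using h

theorem exists_blocks [Finite G] {T : Subgroup G} (hT : IsPGroup 2 T) {Ω : Type*} {R : G → Equiv.Perm Ω → Prop}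
    {Ω₀ : Set Ω} (hex : ∀ t ∈ T, ∃ π, R t π) (hone : R 1 1)
    (hmul : ∀ s ∈ T, ∀ t ∈ T, ∀ π ρ, R s π → R t ρ → R (s * t) (π * ρ))
    (hinv : ∀ t ∈ T, ∀ π, R t π → R t⁻¹ π⁻¹)
    (huniq : ∀ t ∈ T, ∀ π ρ, R t π → R t ρ → π = ρ)
    (hpres : ∀ t ∈ T, ∀ π, R t π → ∀ p ∈ Ω₀, π p ∈ Ω₀)
    (htr : ∀ p ∈ Ω₀, ∀ q ∈ Ω₀, ∃ t ∈ T, ∃ π, R t π ∧ π p = q)
    {p₀ p₁ : Ω} (hp₀ : p₀ ∈ Ω₀) (hp₁ : p₁ ∈ Ω₀) (hne : p₀ ≠ p₁) :
    ∃ C ⊆ Ω₀, p₀ ∈ C ∧ (Ω₀ \ C).Nonempty ∧ ∀ t ∈ T, ∀ π, R t π → π '' C = C ∨ π '' C = Ω₀ \ C := by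
  -- the stabiliser of `p₀`
  let A : Subgroup G :=
    { carrier := {t | t ∈ T ∧ ∃ π, R t π ∧ π p₀ = p₀}
      mul_mem' := by
        rintro s t ⟨hs, π, h1, h2⟩ ⟨ht, ρ, h3, h4⟩
        exact ⟨mul_mem hs ht, π * ρ, hmul s hs t ht π ρ h1 h3, by rw [Equiv.Perm.mul_apply, h4, h2]⟩
      one_mem' := ⟨one_mem T, 1, hone, rfl⟩
      inv_mem' := by
        rintro t ⟨ht, π, h1, h2⟩
        refine ⟨inv_mem ht, π⁻¹, hinv t ht π h1, ?_⟩
        rw [Equiv.Perm.inv_eq_iff_eq, h2] }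
  have hA : ∀ t, t ∈ A ↔ t ∈ T ∧ ∃ π, R t π ∧ π p₀ = p₀ := fun t => Iff.rfl
  have hAT : A ≤ T := fun t ht => ht.1
  have hTA : ¬ T ≤ A := by
    intro h
    obtain ⟨t, ht, π, h1, h2⟩ := htr p₀ hp₀ p₁ hp₁
    obtain ⟨-, ρ, h3, h4⟩ := (hA t).1 (h ht)
    rw [huniq t ht π ρ h1 h3, h4] at h2
    exact hne h2
  obtain ⟨K, hAK, hKT, hK⟩ := exists_index_two hT hAT hTA
  let C : Set Ω := {q | ∃ s ∈ K, ∃ π, R s π ∧ π p₀ = q}
  have hC : ∀ q, q ∈ C ↔ ∃ s ∈ K, ∃ π, R s π ∧ π p₀ = q := fun q => Iff.rfl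
  -- `π_t p₀ ∈ C` iff `t ∈ K`
  have key : ∀ t ∈ T, ∀ π, R t π → (π p₀ ∈ C ↔ t ∈ K) := by
    intro t ht π hπ
    constructor
    · rintro ⟨s, hs, ρ, hρ, h1⟩
      have h2 : s⁻¹ * t ∈ A := by
        refine ⟨mul_mem (inv_mem (hKT hs)) ht, ρ⁻¹ * π, hmul _ (inv_mem (hKT hs)) t ht _ _ (hinv s (hKT hs) ρ hρ) hπ,
          ?_⟩
        rw [Equiv.Perm.mul_apply, Equiv.Perm.inv_eq_iff_eq, h1]
      have h3 := mul_mem hs (hAK h2)
      rwa [mul_inv_cancel_left] at h3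
    · intro h
      exact ⟨t, h, π, hπ, rfl⟩
  refine ⟨C, ?_, ⟨1, one_mem K, 1, hone, rfl⟩, ?_, ?_⟩
  · rintro q ⟨s, hs, π, hπ, rfl⟩
    exact hpres s (hKT hs) π hπ p₀ hp₀
  · -- some `t ∉ K`
    have : ∃ t ∈ T, t ∉ K := by
      by_contra h
      push Not at h
      have : K.relIndex T = 1 := relIndex_eq_one.2 h
      omega
    obtain ⟨t, ht, htK⟩ := this
    obtain ⟨π, hπ⟩ := hex t ht
    exact ⟨π p₀, hpres t ht π hπ p₀ hp₀, fun h => htK ((key t ht π hπ).1 h)⟩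
  · intro t ht π hπ
    have himg : ∀ q ∈ Ω₀, q ∈ π '' C ↔ (t ∈ K ↔ q ∈ C) := by
      intro q hq
      obtain ⟨s, hs, ρ, hρ, rfl⟩ := htr p₀ hp₀ q hq
      rw [key s hs ρ hρ]
      have h1 : ρ p₀ ∈ π '' C ↔ (π⁻¹ * ρ) p₀ ∈ C := by
        constructor
        · rintro ⟨x, hx, h2⟩
          have : (π⁻¹ * ρ) p₀ = x := by
            rw [Equiv.Perm.mul_apply, Equiv.Perm.inv_eq_iff_eq, h2]
          rwa [this]
        · intro h
          exact ⟨_, h, π.apply_symm_apply _⟩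
      rw [h1, key (t⁻¹ * s) (mul_mem (inv_mem ht) hs) _ (hmul _ (inv_mem ht) s hs _ _ (hinv t ht π hπ) hρ),
        mul_mem_of_index_two hK (inv_mem ht) hs, inv_mem_iff]
    have hsub : π '' C ⊆ Ω₀ := by
      rintro _ ⟨x, ⟨s, hs, ρ, hρ, rfl⟩, rfl⟩
      exact hpres t ht π hπ _ (hpres s (hKT hs) ρ hρ p₀ hp₀)
    have hCsub : C ⊆ Ω₀ := by
      rintro q ⟨s, hs, ρ, hρ, rfl⟩
      exact hpres s (hKT hs) ρ hρ p₀ hp₀
    by_cases htK : t ∈ K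
    · left
      ext q
      constructor
      · intro h
        exact ((himg q (hsub h)).1 h).1 htK
      · intro h
        exact (himg q (hCsub h)).2 (iff_of_true htK h)
    · right
      ext q
      constructor
      · intro h
        exact ⟨hsub h, fun h1 => htK (((himg q (hsub h)).1 h).2 h1)⟩
      · rintro ⟨h1, h2⟩
        exact (himg q h1).2 (iff_of_false htK h2)

end Cfsg.Agent.Omega.Half
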