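import Cfsg.Agent.Omega.Half.AppNat
import Cfsg.Agent.Omega.Half.Blocks

/-!
# Even-subset modules: the action on the points (project OMEGA, job 168)

`M : SymK T H V ⊥ k m`. `Pt k m` = the points, `E M v` = the characteristic function of `v`, `Mv M g π` : `g` acts on
the points by `π`. `trans_pts` : a Sylow 2-subgroup is transitive on the points `≠ 0`.
-/

set_option autoImplicit false

namespace Cfsg.Agent.Omega.Half.SymA

open Subgroup Cfsg Cfsg.Agent.ZN Cfsg.Agent.Omega.FFThm Cfsg.Agent.Omega.MinPar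
open Cfsg.Agent.ZN.ChoiceBase hiding mem_zc
open scoped Classical

universe u

variable {G : Type u} [Group G] {T H V : Subgroup G} {k m : ℕ}

/-- the points -/
abbrev Pt (k m : ℕ) := Fin k × Fin (2 ^ m + 1)

theorem zmod2 (a : ZMod 2) : a = 0 ∨ a = 1 := by
  revert a
  decide

theorem zmod2_ne {a : ZMod 2} : a ≠ 0 ↔ a = 1 := by
  revert a
  decide

section basic

variable (M : SymK T H V ⊥ k m)

/-- the characteristic function -/
def E (v : G) (p : Pt k m) : ZMod 2 := M.e v p.1 p.2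

theorem E_mul {v w : G} (hv : v ∈ V) (hw : w ∈ V) (p : Pt k m) : E M (v * w) p = E M v p + E M w p := by
  rw [E, M.mul v hv w hw]
  rfl

theorem E_one (p : Pt k m) : E M 1 p = 0 := by
  have h := E_mul M (one_mem V) (one_mem V) p
  rw [one_mul] at h
  exact left_eq_add.1 h

theorem E_inv {v : G} (hv : v ∈ V) (p : Pt k m) : E M v⁻¹ p = E M v p := by
  have h := E_mul M hv (inv_mem hv) p
  rw [mul_inv_cancel, E_one] at h
  have h1 : E M v⁻¹ p = -E M v p := (neg_eq_of_add_eq_zero_right h.symm).symm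
  rw [h1]
  exact CharTwo.neg_eq _

theorem eq_one {v : G} (hv : v ∈ V) (h : ∀ p, E M v p = 0) : v = 1 := by
  refine mem_bot.1 ((M.ker v hv).1 ?_)
  funext i x
  exact h (i, x)

theorem inj {v w : G} (hv : v ∈ V) (hw : w ∈ V) (h : ∀ p, E M v p = E M w p) : v = w := by
  rw [← mul_inv_eq_one]
  apply eq_one M (mul_mem hv (inv_mem hw))
  intro p
  rw [E_mul M hv (inv_mem hw), E_inv M hw, h p]
  exact CharTwo.add_self_eq_zero _

theorem even {v : G} (hv : v ∈ V) (i : Fin k) : ∑ x, E M v (i, x) = 0 := M.even v hv i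

theorem exists_E (y : Pt k m → ZMod 2) (hy : ∀ i, ∑ x, y (i, x) = 0) : ∃ v ∈ V, ∀ p, E M v p = y p := by
  obtain ⟨v, hv, h⟩ := M.surj (fun i x => y (i, x)) hy
  exact ⟨v, hv, fun p => by rw [E, h]⟩

/-- the pair `{p, q}` -/
theorem exists_pair {p q : Pt k m} (hpq : p.1 = q.1) :
    ∃ v ∈ V, ∀ r, E M v r = (if r = p then 1 else 0) + (if r = q then 1 else 0) := by
  apply exists_E M
  intro i
  have h1 : ∀ p : Pt k m, ∑ x, (if ((i, x) : Pt k m) = p then (1 : ZMod 2) else 0) = if i = p.1 then 1 else 0 := by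
    intro p
    by_cases hi : i = p.1
    · rw [if_pos hi, Finset.sum_eq_single p.2]
      · rw [if_pos (show ((i, p.2) : Pt k m) = p from Prod.ext hi rfl)]
      · intro b _ hb
        rw [if_neg]
        intro h
        exact hb (congrArg Prod.snd h)
      · intro h
        exact absurd (Finset.mem_univ _) h
    · rw [if_neg hi]
      apply Finset.sum_eq_zero
      intro x _
      rw [if_neg]
      intro h
      exact hi (congrArg Prod.fst h)
  rw [Finset.sum_add_distrib, h1, h1, hpq]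
  exact CharTwo.add_self_eq_zero _

/-- `g` moves the points by `π` -/
def Mv (g : G) (π : Equiv.Perm (Pt k m)) : Prop := ∀ v ∈ V, ∀ p, E M (g * v * g⁻¹) (π p) = E M v p

theorem Mv_one : Mv M 1 1 := by
  intro v _ p
  rw [one_mul, inv_one, mul_one]
  rfl

/-- the permutation of the points -/
def pm (σ : Equiv.Perm (Fin k)) (τ : Fin k → Equiv.Perm (Fin (2 ^ m + 1))) : Equiv.Perm (Pt k m) where
  toFun p := (σ p.1, τ p.1 p.2)
  invFun p := (σ.symm p.1, (τ (σ.symm p.1)).symm p.2)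
  left_inv p := by simp
  right_inv p := by simp

theorem mv_pm {g : G} {σ : Equiv.Perm (Fin k)} {τ : Fin k → Equiv.Perm (Fin (2 ^ m + 1))}
    (h : ActsSym M.e V g σ τ) : Mv M g (pm σ τ) := fun v hv p => h v hv p.1 p.2

theorem exists_third (hm : 1 ≤ m) (a b : Fin (2 ^ m + 1)) : ∃ c, c ≠ a ∧ c ≠ b := by
  have h : ({a, b} : Finset (Fin (2 ^ m + 1))).card < (Finset.univ : Finset (Fin (2 ^ m + 1))).card := by
    have h1 : ({a, b} : Finset (Fin (2 ^ m + 1))).card ≤ 2 := Finset.card_le_two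
    have h2 : (Finset.univ : Finset (Fin (2 ^ m + 1))).card = 2 ^ m + 1 := by simp
    have h3 : 2 ≤ 2 ^ m := by
      calc 2 = 2 ^ 1 := by norm_num
        _ ≤ 2 ^ m := Nat.pow_le_pow_right (by norm_num) hm
    omega
  obtain ⟨c, -, hc⟩ := Finset.exists_mem_notMem_of_card_lt_card h
  simp only [Finset.mem_insert, Finset.mem_singleton, not_or] at hc
  exact ⟨c, hc.1, hc.2⟩

theorem sep (hm : 1 ≤ m) {p q : Pt k m} (hpq : p ≠ q) : ∃ v ∈ V, E M v p = 1 ∧ E M v q = 0 := by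
  obtain ⟨c, hc1, hc2⟩ := exists_third hm p.2 q.2
  obtain ⟨v, hv, h⟩ := exists_pair M (p := p) (q := (p.1, c)) rfl
  refine ⟨v, hv, ?_, ?_⟩
  · rw [h, if_pos rfl, if_neg, add_zero]
    intro h1
    exact hc1 (congrArg Prod.snd h1).symm
  · rw [h, if_neg hpq.symm, if_neg, add_zero]
    intro h1
    exact hc2 (congrArg Prod.snd h1).symm

end basic

section amb

variable {M : SymK T H V ⊥ k m} (hA : Amb T H V)

include hA

theorem Mv.unique (hm : 1 ≤ m) {g : G} {π ρ : Equiv.Perm (Pt k m)} (hπ : Mv M g π) (hρ : Mv M g ρ) (hg : g ∈ H) :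
    π = ρ := by
  ext1 p
  by_contra hne
  obtain ⟨w, hw, h1, h2⟩ := sep M hm hne
  have h3 : g⁻¹ * w * g⁻¹⁻¹ ∈ V := hA.conj_mem (inv_mem hg) hw
  have h4 : g * (g⁻¹ * w * g⁻¹⁻¹) * g⁻¹ = w := by group
  have h5 := hπ _ h3 p
  have h6 := hρ _ h3 p
  rw [h4] at h5 h6
  rw [h1] at h5
  rw [h2, ← h5] at h6
  exact one_ne_zero h6.symm

theorem Mv.mul {g h : G} {π ρ : Equiv.Perm (Pt k m)} (hπ : Mv M g π) (hρ : Mv M h ρ) (hh : h ∈ H) :
    Mv M (g * h) (π * ρ) := by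
  intro v hv p
  have e1 : g * h * v * (g * h)⁻¹ = g * (h * v * h⁻¹) * g⁻¹ := by group
  rw [e1, Equiv.Perm.mul_apply, hπ _ (hA.conj_mem hh hv), hρ v hv]

theorem Mv.inv {g : G} {π : Equiv.Perm (Pt k m)} (hπ : Mv M g π) (hg : g ∈ H) : Mv M g⁻¹ π⁻¹ := by
  intro v hv p
  have h1 := hπ _ (hA.conj_mem (inv_mem hg) hv) (π⁻¹ p)
  have h2 : g * (g⁻¹ * v * g⁻¹⁻¹) * g⁻¹ = v := by group
  have h3 : π (π⁻¹ p) = p := π.apply_symm_apply p
  rw [h2, h3] at h1
  exact h1.symm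

theorem Mv.pow {g : G} {π : Equiv.Perm (Pt k m)} (hπ : Mv M g π) (hg : g ∈ H) (n : ℕ) : Mv M (g ^ n) (π ^ n) := by
  induction n with
  | zero => rw [pow_zero, pow_zero]; exact Mv_one M
  | succ n ih => rw [pow_succ, pow_succ]; exact ih.mul hA hπ hg

theorem Mv.conj {g h : G} {π ρ : Equiv.Perm (Pt k m)} (hπ : Mv M g π) (hg : g ∈ H) (hρ : Mv M h ρ) (hh : h ∈ H) :
    Mv M (g * h * g⁻¹) (π * ρ * π⁻¹) :=
  (hπ.mul hA hρ hh).mul hA (hπ.inv hA hg) (inv_mem hg)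

omit hA in
theorem exists_mv {g : G} (hg : g ∈ H) : ∃ π, Mv M g π ∧ ∀ p q : Pt k m, p.1 = q.1 → (π p).1 = (π q).1 := by
  obtain ⟨σ, τ, h⟩ := M.perm g hg
  refine ⟨pm σ τ, mv_pm M h, fun p q hpq => ?_⟩
  change σ p.1 = σ q.1
  rw [hpq]

theorem Mv.fst (hm : 1 ≤ m) {g : G} {π : Equiv.Perm (Pt k m)} (hπ : Mv M g π) (hg : g ∈ H) {p q : Pt k m}
    (hpq : p.1 = q.1) : (π p).1 = (π q).1 := by
  obtain ⟨ρ, hρ, h⟩ := exists_mv (M := M) hg
  rw [hπ.unique hA hm hρ hg]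
  exact h p q hpq

/-- `T` fixes the zero points -/
theorem Mv.snd (hm : 1 ≤ m) {t : G} {π : Equiv.Perm (Pt k m)} (hπ : Mv M t π) (ht : t ∈ T) {p : Pt k m} :
    (π p).2 = 0 ↔ p.2 = 0 := by
  obtain ⟨σ, τ, h⟩ := M.perm t (hA.TH ht)
  have h1 := hπ.unique hA hm (mv_pm M h) (hA.TH ht)
  have h2 := M.fix0 t ht σ τ h
  rw [h1]
  change τ p.1 p.2 = 0 ↔ p.2 = 0
  rw [← (τ p.1).injective.eq_iff (a := p.2) (b := 0), h2]

omit hA in
theorem trans_sum (i j : Fin k) :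
    ∃ t ∈ T, ∃ π, Mv M t π ∧ ∀ p : Pt k m, p.1 = i → (π p).1 = j := by
  obtain ⟨t, ht, σ, τ, h, h1⟩ := M.trans i j
  refine ⟨t, ht, pm σ τ, mv_pm M h, fun p hp => ?_⟩
  change σ p.1 = j
  rw [hp, h1]

omit hA in
theorem pm_swap {p q : Pt k m} (hpq : p.1 = q.1) :
    pm 1 (Function.update 1 p.1 (Equiv.swap p.2 q.2)) = Equiv.swap p q := by
    ext1 ⟨i, x⟩
    change ((1 : Equiv.Perm (Fin k)) i, (Function.update (1 : Fin k → Equiv.Perm (Fin (2 ^ m + 1))) p.1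
      (Equiv.swap p.2 q.2) i) x) = Equiv.swap p q (i, x)
    obtain ⟨a, b⟩ := p
    obtain ⟨a', c⟩ := q
    change a = a' at hpq
    subst hpq
    by_cases hi : i = a
    · subst hi
      rw [Function.update_self]
      change (i, Equiv.swap b c x) = _
      by_cases hb : x = b
      · rw [hb, Equiv.swap_apply_left, Equiv.swap_apply_left]
      · by_cases hc : x = c
        · rw [hc, Equiv.swap_apply_right, Equiv.swap_apply_right]
        · rw [Equiv.swap_apply_of_ne_of_ne hb hc, Equiv.swap_apply_of_ne_of_ne]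
          · intro h; exact hb (congrArg Prod.snd h)
          · intro h; exact hc (congrArg Prod.snd h)
    · rw [Function.update_of_ne hi, Equiv.swap_apply_of_ne_of_ne]
      · rfl
      · intro h; exact hi (congrArg Prod.fst h)
      · intro h; exact hi (congrArg Prod.fst h)

omit hA in
/-- a transposition of two points of the same summand -/
theorem exists_swap {p q : Pt k m} (hpq : p.1 = q.1) : ∃ g ∈ H, Mv M g (Equiv.swap p q) := by
  obtain ⟨g, hg, h, -⟩ := M.lift (Function.update 1 p.1 (Equiv.swap p.2 q.2))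
  refine ⟨g, hg, ?_⟩
  have h1 := mv_pm M h
  rwa [pm_swap hpq] at h1

end amb

/-! ### The cycle -/

section cycle

/-- the cycle `(1 2 … 2^m)` -/
def cy (m : ℕ) : Equiv.Perm (Fin (2 ^ m + 1)) :=
  Equiv.Perm.decomposeFin.symm (0, Equiv.addRight (1 : Fin (2 ^ m)))

theorem cy_zero (m : ℕ) : cy m 0 = 0 := by
  rw [cy, Equiv.Perm.decomposeFin_symm_apply_zero]

theorem cy_succ (m : ℕ) (a : Fin (2 ^ m)) : cy m a.succ = (a + 1).succ := by
  rw [cy, Equiv.Perm.decomposeFin_symm_apply_succ, Equiv.swap_self]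
  rfl

theorem add_ofNat_succ {N : ℕ} [NeZero N] (a : Fin N) (n : ℕ) : a + 1 + Fin.ofNat N n = a + Fin.ofNat N (n + 1) := by
  apply Fin.ext
  simp only [Fin.val_add, Fin.ofNat, Nat.mod_add_mod, Nat.add_mod_mod, Fin.val_one']
  congr 1
  omega

theorem cy_pow_succ (m : ℕ) (n : ℕ) (a : Fin (2 ^ m)) : ((cy m) ^ n) a.succ = (a + Fin.ofNat (2 ^ m) n).succ := by
  induction n generalizing a with
  | zero => simp
  | succ n ih => rw [pow_succ, Equiv.Perm.mul_apply, cy_succ, ih, add_ofNat_succ]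

theorem cy_pow_zero (m : ℕ) (n : ℕ) : ((cy m) ^ n) 0 = 0 := by
  induction n with
  | zero => rfl
  | succ n ih => rw [pow_succ, Equiv.Perm.mul_apply, cy_zero, ih]

theorem cy_pow (m : ℕ) : (cy m) ^ (2 ^ m) = 1 := by
  ext1 x
  rcases Fin.eq_zero_or_eq_succ x with h | ⟨a, h⟩
  · rw [h, cy_pow_zero]; rfl
  · have h1 : a + Fin.ofNat (2 ^ m) (2 ^ m) = a := by
      simp [Fin.ofNat]
    rw [h, cy_pow_succ, h1]
    rfl

theorem exists_cy_pow (m : ℕ) {x y : Fin (2 ^ m + 1)} (hx : x ≠ 0) (hy : y ≠ 0) : ∃ n, ((cy m) ^ n) x = y := by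
  obtain ⟨a, rfl⟩ := Fin.exists_succ_eq.2 hx
  obtain ⟨b, rfl⟩ := Fin.exists_succ_eq.2 hy
  refine ⟨(b - a).val, ?_⟩
  have : Fin.ofNat (2 ^ m) (b - a).val = b - a := by simp
  rw [cy_pow_succ, this, add_sub_cancel]

end cycle

/-! ### Transitivity on the points -/

section trans

variable [Finite G] (S : Sylow 2 G) {P : Subgroup G} {M : SymK (S : Subgroup G) P V ⊥ k m}
  (hA : Amb (S : Subgroup G) P V)

/-- a 2-subgroup of `P` is conjugate in `P` into `S` -/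
theorem exists_conj_le {Q : Subgroup G} (hSP : (S : Subgroup G) ≤ P) (hQ : IsPGroup 2 Q) (hQP : Q ≤ P) :
    ∃ g ∈ P, ∀ x ∈ Q, g * x * g⁻¹ ∈ (S : Subgroup G) := by
  have : Fact (Nat.Prime 2) := ⟨Nat.prime_two⟩
  have hQ' : IsPGroup 2 (Q.subgroupOf P) := hQ.comap_of_injective P.subtype P.subtype_injective
  obtain ⟨R, hR⟩ := hQ'.exists_le_sylow
  obtain ⟨g, hg⟩ := MulAction.exists_smul_eq P R (S.subtype hSP)
  refine ⟨g, g.2, fun x hx => ?_⟩
  have h1 : (⟨x, hQP hx⟩ : P) ∈ R := hR (by rw [mem_subgroupOf]; exact hx)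
  have h2 : g * ⟨x, hQP hx⟩ * g⁻¹ ∈ ((g • R : Sylow 2 P) : Subgroup P) := by
    rw [Sylow.coe_subgroup_smul, Subgroup.mem_pointwise_smul_iff_inv_smul_mem]
    have h3 : ∀ y : P, (MulAut.conj g)⁻¹ • (g * y * g⁻¹) = y := fun y => by
      rw [MulAut.smul_def, MulAut.conj_inv_apply]
      group
    rw [h3]
    exact h1
  rw [hg] at h2
  exact h2

include hA

theorem exists_cycle (hm : 1 ≤ m) : ∃ t ∈ (S : Subgroup G), ∃ π : Equiv.Perm (Pt k m), Mv M t π ∧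
    ∀ p q : Pt k m, p.1 = q.1 → p.2 ≠ 0 → q.2 ≠ 0 → ∃ n : ℕ, (π ^ n) p = q := by
  -- a lift of the cycle
  obtain ⟨h, hh, hact, -⟩ := M.lift fun _ => cy m
  have h1 := mv_pm M hact
  set c : Equiv.Perm (Pt k m) := pm 1 fun _ => cy m with hc
  have hcpow : ∀ n : ℕ, ∀ p : Pt k m, (c ^ n) p = (p.1, ((cy m) ^ n) p.2) := by
    intro n
    induction n with
    | zero => intro p; rfl
    | succ n ih =>
      intro p
      rw [pow_succ, Equiv.Perm.mul_apply, ih, pow_succ, Equiv.Perm.mul_apply]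
      rfl
  have hc1 : c ^ (2 ^ m) = 1 := by
    ext1 p
    rw [hcpow, cy_pow]
    rfl
  -- its 2-part
  obtain ⟨a, N, hN, hord⟩ := Nat.exists_eq_two_pow_mul_odd (orderOf_pos h).ne'
  obtain ⟨u, hu⟩ : ∃ u, N * u ≡ 1 [MOD 2 ^ m] := by
    obtain ⟨u, -, hu⟩ := Nat.exists_mul_mod_eq_of_coprime (n := N) (k := 2 ^ m) 1
      (Nat.Coprime.pow_right m (Nat.coprime_two_right.2 hN)) (by positivity)
    exact ⟨u, hu⟩
  have hcN : c ^ (N * u) = c := by
    have := pow_eq_pow_of_modEq hu hc1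
    rwa [pow_one] at this
  have h2 := h1.pow hA hh (N * u)
  rw [hcN] at h2
  have hp2 : IsPGroup 2 (zpowers (h ^ (N * u))) := by
    have e : (h ^ (N * u)) ^ 2 ^ a = 1 := by
      rw [← pow_mul]
      apply orderOf_dvd_iff_pow_eq_one.1
      rw [hord]
      exact ⟨u, by ring⟩
    rintro ⟨x, n, rfl⟩
    refine ⟨a, Subtype.ext ?_⟩
    change ((h ^ (N * u)) ^ n) ^ 2 ^ a = 1
    rw [← zpow_natCast, ← zpow_mul, mul_comm n, zpow_mul, zpow_natCast, e, one_zpow]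
  have hle : zpowers (h ^ (N * u)) ≤ P := zpowers_le.2 (pow_mem hh _)
  obtain ⟨g, hg, hgS⟩ := exists_conj_le S hA.TH hp2 hle
  have h3 := hgS _ (mem_zpowers _)
  obtain ⟨ρ, hρ, hρ1⟩ := exists_mv (M := M) hg
  have h4 := hρ.conj hA hg h2 (pow_mem hh _)
  -- `ρ` preserves the zero points
  have h5 : ∀ p : Pt k m, p.2 ≠ 0 → (ρ⁻¹ p).2 ≠ 0 := by
    -- the permutation `ρ c ρ⁻¹` of `S` fixes the zero points, and only them
    have hfix : ∀ i : Fin k, (ρ * c * ρ⁻¹) (i, 0) = (i, 0) := by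
      intro i
      have e1 : ((ρ * c * ρ⁻¹) (i, 0)).2 = 0 := (h4.snd hA hm h3).2 rfl
      have e2 : ((ρ * c * ρ⁻¹) (i, 0)).1 = i := by
        have e3 : (c (ρ⁻¹ (i, 0))).1 = (ρ⁻¹ (i, 0)).1 := rfl
        have e4 := hρ1 _ _ e3
        have e5 : ρ (ρ⁻¹ (i, 0)) = (i, 0) := ρ.apply_symm_apply _
        rw [e5] at e4
        exact e4
      exact Prod.ext e2 e1
    -- so `ρ⁻¹ (i, 0)` is a zero point
    have hz : ∀ i : Fin k, (ρ⁻¹ (i, 0)).2 = 0 := by
      intro i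
      by_contra hne
      have e1 : c (ρ⁻¹ (i, 0)) = ρ⁻¹ (i, 0) := by
        have e2 := congrArg (ρ⁻¹ : Equiv.Perm (Pt k m)) (hfix i)
        have e3 : ρ⁻¹ ((ρ * c * ρ⁻¹) (i, 0)) = c (ρ⁻¹ (i, 0)) := ρ.symm_apply_apply _
        rwa [e3] at e2
      obtain ⟨a, ha⟩ := Fin.exists_succ_eq.2 hne
      have e2 : cy m (ρ⁻¹ (i, 0)).2 = (ρ⁻¹ (i, 0)).2 := congrArg Prod.snd e1
      rw [← ha, cy_succ, Fin.succ_inj] at e2
      have e3 : (1 : Fin (2 ^ m)) = 0 := by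
        have := add_eq_left.1 e2
        exact this
      have h7 : 1 < 2 ^ m := Nat.one_lt_two_pow (by omega)
      have e4 := congrArg Fin.val e3
      rw [Fin.val_one', Fin.val_zero, Nat.mod_eq_of_lt h7] at e4
      exact one_ne_zero e4
    intro p hp h0
    -- `ρ⁻¹ p = (a, 0)`, and `ρ (a, 0)` is a zero point by counting: use `ρ⁻¹ (i, 0)` with `i = p.1`
    apply hp
    have e1 := hz p.1
    have e2 : (ρ⁻¹ (p.1, 0)).1 = (ρ⁻¹ p).1 := (hρ.inv hA hg).fst hA hm (inv_mem hg) rfl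
    have e3 : ρ⁻¹ (p.1, 0) = ρ⁻¹ p := Prod.ext e2 (e1.trans h0.symm)
    have e4 := ρ⁻¹.injective e3
    rw [← e4]
  refine ⟨_, h3, _, h4, fun p q hpq hp hq => ?_⟩
  have h6 : (ρ⁻¹ p).1 = (ρ⁻¹ q).1 := (hρ.inv hA hg).fst hA hm (inv_mem hg) hpq
  obtain ⟨n, hn⟩ := exists_cy_pow m (h5 p hp) (h5 q hq)
  refine ⟨n, ?_⟩
  rw [conj_pow, Equiv.Perm.mul_apply, Equiv.Perm.mul_apply, hcpow, hn, h6]
  exact ρ.apply_symm_apply q

theorem trans_pts (hm : 1 ≤ m) {p q : Pt k m} (hp : p.2 ≠ 0) (hq : q.2 ≠ 0) :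
    ∃ t ∈ (S : Subgroup G), ∃ π, Mv M t π ∧ π p = q := by
  obtain ⟨t, ht, π, hπ, h1⟩ := trans_sum (M := M) p.1 q.1
  obtain ⟨s, hs, ρ, hρ, h2⟩ := exists_cycle S hA hm
  have h3 : (π p).2 ≠ 0 := fun h => hp ((hπ.snd hA hm ht).1 h)
  obtain ⟨n, hn⟩ := h2 (π p) q (h1 p rfl) h3 hq
  refine ⟨s ^ n * t, mul_mem (pow_mem hs n) ht, ρ ^ n * π, (hρ.pow hA (hA.TH hs) n).mul hA hπ (hA.TH ht), ?_⟩
  rw [Equiv.Perm.mul_apply, hn]

end trans

end Cfsg.Agent.Omega.Half.SymA
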