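import Cfsg.Agent.Omega.MinPar

/-!
# HALF LEMMA (project OMEGA, helper7, bb OMEGA 11954)

`S` a Sylow 2-subgroup of `G`, `So ≤ S` of index 2, `z ≠ 1` an involution of `Z(So)`, `So ≤ L ≤ H ≤ C_G(z)`,
`C_H(O₂(H)) ≤ O₂(H)`, `O₂(H)` for a group `H` containing a Sylow 2-subgroup of `G` if possible
(`H` contains every 2-subgroup of `C_G(z)` over `So`); `V ≤ So` elementary abelian, normal in `L`,
irreducible and nontrivial for `L`, centralised by `O₂(L)`, `|C_V(So)| ≥ |Ω₁ Z(S)|`.
Then `V ≤ Z(O₂(H))`.  No Thompson subgroup, no module theory.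
-/

set_option autoImplicit false

namespace Cfsg.Agent.Omega.Half

open Subgroup Cfsg Cfsg.Agent.ZN Cfsg.Agent.MinSimple.VModule
open Cfsg.Agent.MinSimple.MinParabolic Cfsg.Agent.MinSimple.Basic

universe u

variable {G : Type u} [Group G]

/-- A 2-element `w` acting on a nontrivial 2-group `V` centralises an involution-like element. -/
theorem exists_fixed [Finite G] {V T : Subgroup G} (hV : IsPGroup 2 V) (hV1 : V ≠ ⊥)
    (hT : IsPGroup 2 T) (hn : T ≤ normalizer (V : Set G)) :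
    ∃ v ∈ V, v ≠ 1 ∧ ∀ t ∈ T, t * v * t⁻¹ = v := by
  haveI : Fact (Nat.Prime 2) := ⟨Nat.prime_two⟩
  let act : T →* MulAut V :=
    { toFun := fun t => (MulAut.conjNormal (H := V.subgroupOf (normalizer (V : Set G)))
          ⟨(t : G), hn t.2⟩) |>.trans (MulEquiv.refl _) |> fun e =>
          ((subgroupOfEquivOfLe (le_normalizer (H := V))).symm.trans e).trans
            (subgroupOfEquivOfLe (le_normalizer (H := V)))
      map_one' := by
        ext v
        simp [subgroupOfEquivOfLe]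
      map_mul' := by
        intro a b
        ext v
        simp [subgroupOfEquivOfLe, mul_assoc] }
  have hact : ∀ (t : T) (v : V), ((act t v : V) : G) = t * v * (t : G)⁻¹ := by
    intro t v
    simp [act, subgroupOfEquivOfLe]
  letI : MulAction T V :=
    { smul := fun t v => act t v
      one_smul := fun v => by
        change act 1 v = v
        rw [map_one]; rfl
      mul_smul := fun a b v => by
        change act (a * b) v = act a (act b v)
        rw [map_mul]; rfl }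
  have hsm : ∀ (t : T) (v : V), ((t • v : V) : G) = t * v * (t : G)⁻¹ := hact
  have h1 := hT.card_modEq_card_fixedPoints V
  have h2 : 2 ∣ Nat.card V := by
    obtain ⟨n, hn⟩ := IsPGroup.iff_card.mp hV
    rcases Nat.eq_zero_or_pos n with h0 | h0
    · subst h0
      rw [pow_zero] at hn
      exact absurd ((card_eq_one).mp hn) hV1
    · rw [hn]
      exact dvd_pow_self 2 h0.ne'
  have h3 : 2 ∣ Nat.card (MulAction.fixedPoints T V) :=
    (Nat.modEq_zero_iff_dvd.mp ((h1.symm.trans (Nat.modEq_zero_iff_dvd.mpr h2))))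
  have h4 : (1 : V) ∈ MulAction.fixedPoints T V := by
    intro t
    apply Subtype.ext
    rw [hsm]
    simp
  haveI : Nonempty (MulAction.fixedPoints T V) := ⟨⟨1, h4⟩⟩
  have h5 : 1 < Nat.card (MulAction.fixedPoints T V) :=
    lt_of_lt_of_le one_lt_two (Nat.le_of_dvd Nat.card_pos h3)
  obtain ⟨a, b, hab⟩ := (Finite.one_lt_card_iff_nontrivial.mp h5).exists_pair_ne
  have key : ∃ c : MulAction.fixedPoints T V, (c : V) ≠ 1 := by
    by_contra hc
    push Not at hc
    exact hab (Subtype.ext ((hc a).trans (hc b).symm))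
  obtain ⟨c, hc⟩ := key
  refine ⟨(c : V), (c : V).2, fun h => hc (Subtype.ext h), fun t ht => ?_⟩
  have := c.2 ⟨t, ht⟩
  have h6 : (((⟨t, ht⟩ : T) • (c : V) : V) : G) = ((c : V) : G) := congrArg (fun x : V => (x : G)) this
  rw [hsm] at h6
  exact h6

/-! ### The action of `w ∈ W - W₀` -/

section Core

variable {L V W0 : Subgroup G} {w : G}

/-- `w` commutes with the action of `L` on `V`. -/
theorem equivariant (hLV : L ≤ normalizer (V : Set G))
    (hw : ∀ g ∈ L, w⁻¹ * (g * w * g⁻¹) ∈ W0) (hW0 : W0 ≤ centralizer (V : Set G))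
    {g v : G} (hg : g ∈ L) (hv : v ∈ V) :
    g * (w * v * w⁻¹) * g⁻¹ = w * (g * v * g⁻¹) * w⁻¹ := by
  have h1 : g * v * g⁻¹ ∈ V := (mem_normalizer_iff.mp (hLV hg) v).mp hv
  have h2 := mem_centralizer_iff.mp (hW0 (hw g hg)) _ h1
  set k := w⁻¹ * (g * w * g⁻¹) with hk
  have h3 : g * w * g⁻¹ = w * k := by rw [hk]; group
  calc g * (w * v * w⁻¹) * g⁻¹ = (g * w * g⁻¹) * (g * v * g⁻¹) * (g * w * g⁻¹)⁻¹ := by group
    _ = w * (k * (g * v * g⁻¹)) * k⁻¹ * w⁻¹ := by rw [h3]; group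
    _ = w * ((g * v * g⁻¹) * k) * k⁻¹ * w⁻¹ := by rw [h2]
    _ = w * (g * v * g⁻¹) * w⁻¹ := by group

variable (hLV : L ≤ normalizer (V : Set G)) (hVL : V ≤ L)
  (hw : ∀ g ∈ L, w⁻¹ * (g * w * g⁻¹) ∈ W0) (hW0 : W0 ≤ centralizer (V : Set G))
  (hcomm : ∀ a ∈ V, ∀ b ∈ V, a * b = b * a)

include hLV hVL hw hW0 hcomm

/-- `V` and `wVw⁻¹` commute. -/
theorem comm_conj {u v : G} (hu : u ∈ V) (hv : v ∈ V) :
    u * (w * v * w⁻¹) = (w * v * w⁻¹) * u := by
  have h1 := equivariant hLV hw hW0 (hVL hu) hv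
  have h2 : u * v * u⁻¹ = v := by rw [hcomm u hu v hv]; group
  rw [h2] at h1
  calc u * (w * v * w⁻¹) = u * (w * v * w⁻¹) * u⁻¹ * u := by group
    _ = (w * v * w⁻¹) * u := by rw [h1]

omit hVL hcomm in
theorem inf_invariant : L ≤ normalizer ((V ⊓ V.map (MulAut.conj w).toMonoidHom : Subgroup G) : Set G) := by
  have key : ∀ g ∈ L, ∀ x ∈ V ⊓ V.map (MulAut.conj w).toMonoidHom,
      g * x * g⁻¹ ∈ V ⊓ V.map (MulAut.conj w).toMonoidHom := by
    rintro g hg x ⟨hx1, hx2⟩
    obtain ⟨v, hv, rfl⟩ := hx2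
    refine ⟨(mem_normalizer_iff.mp (hLV hg) _).mp hx1, ?_⟩
    refine ⟨g * v * g⁻¹, (mem_normalizer_iff.mp (hLV hg) _).mp hv, ?_⟩
    have := equivariant hLV hw hW0 hg hv
    simpa using this.symm
  intro g hg
  rw [mem_normalizer_iff]
  intro x
  refine ⟨key g hg x, fun h => ?_⟩
  have := key g⁻¹ (inv_mem hg) _ h
  simpa [mul_assoc] using this

omit hVL hcomm in
theorem cent_invariant : L ≤ normalizer ((V ⊓ centralizer ({w} : Set G) : Subgroup G) : Set G) := by
  have key : ∀ g ∈ L, ∀ x ∈ V ⊓ centralizer ({w} : Set G),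
      g * x * g⁻¹ ∈ V ⊓ centralizer ({w} : Set G) := by
    rintro g hg x ⟨hx1, hx2⟩
    refine ⟨(mem_normalizer_iff.mp (hLV hg) _).mp hx1, ?_⟩
    have h1 := equivariant hLV hw hW0 hg hx1
    have hx3 : w * x = x * w := mem_centralizer_iff.mp hx2 w rfl
    refine mem_centralizer_iff.mpr ?_
    intro y hy
    rw [Set.mem_singleton_iff.mp hy]
    have h2 : w * x * w⁻¹ = x := by rw [hx3]; group
    rw [h2] at h1
    calc w * (g * x * g⁻¹) = w * (g * x * g⁻¹) * w⁻¹ * w := by group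
      _ = g * x * g⁻¹ * w := by rw [← h1]
  intro g hg
  rw [mem_normalizer_iff]
  intro x
  refine ⟨key g hg x, fun h => ?_⟩
  have := key g⁻¹ (inv_mem hg) _ h
  simpa [mul_assoc] using this

end Core

/-! ### The theorem -/

theorem le_normalizer_inf {K A B : Subgroup G} (hA : K ≤ normalizer (A : Set G))
    (hB : K ≤ normalizer (B : Set G)) : K ≤ normalizer ((A ⊓ B : Subgroup G) : Set G) := by
  intro g hg
  rw [mem_normalizer_iff]
  intro x
  exact and_congr (mem_normalizer_iff.mp (hA hg) x) (mem_normalizer_iff.mp (hB hg) x)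

theorem card_mul_relIndex {A B : Subgroup G} (h : A ≤ B) :
    Nat.card A * A.relIndex B = Nat.card B := by
  rw [relIndex, ← card_mul_index (A.subgroupOf B), Nat.card_congr (subgroupOfEquivOfLe h).toEquiv]

/-- A 2-subgroup of `H` lies in a Sylow 2-subgroup of `H`. -/
theorem exists_sylow_le [Finite G] {So H : Subgroup G} (h2 : IsPGroup 2 So) (h : So ≤ H) :
    ∃ T : Subgroup G, So ≤ T ∧ T ≤ H ∧ IsPGroup 2 T ∧ ¬ 2 ∣ T.relIndex H := by
  have : Fact (Nat.Prime 2) := ⟨Nat.prime_two⟩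
  obtain ⟨T, hT⟩ := (h2.comap_of_injective H.subtype H.subtype_injective).exists_le_sylow
  refine ⟨(T : Subgroup H).map H.subtype, ?_, map_subtype_le _, T.isPGroup'.map _, ?_⟩
  · intro x hx
    exact ⟨⟨x, h hx⟩, hT hx, rfl⟩
  · have h3 := T.not_dvd_index
    have h4 : ((T : Subgroup H).map H.subtype).subgroupOf H = (T : Subgroup H) :=
      comap_map_eq_self_of_injective H.subtype_injective _
    rw [relIndex, h4]
    exact h3

theorem card_le_sylow [Finite G] (S : Sylow 2 G) {T : Subgroup G} (hT : IsPGroup 2 T) :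
    Nat.card T ≤ Nat.card (S : Subgroup G) := by
  have : Fact (Nat.Prime 2) := ⟨Nat.prime_two⟩
  obtain ⟨P, hP⟩ := hT.exists_le_sylow
  rw [S.card_eq_multiplicity, ← P.card_eq_multiplicity]
  exact card_le_of_le hP

theorem card_zc_of_card_eq [Finite G] (S : Sylow 2 G) {T : Subgroup G} (hT : IsPGroup 2 T)
    (h : Nat.card T = Nat.card (S : Subgroup G)) : Nat.card (zc T) = Nat.card (zc (S : Subgroup G)) := by
  have : Fact (Nat.Prime 2) := ⟨Nat.prime_two⟩
  obtain ⟨P, hP⟩ := hT.exists_le_sylow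
  have h1 : T = (P : Subgroup G) := by
    refine eq_of_le_of_card_ge hP ?_
    rw [h]
    exact card_le_sylow S P.isPGroup'
  obtain ⟨g, hg⟩ := MulAction.exists_smul_eq G S P
  have h2 : (P : Subgroup G) = (S : Subgroup G).map (MulAut.conj g).toMonoidHom := by
    rw [← hg]; rfl
  rw [h1, h2, zc_map _ (MulAut.conj g).injective, card_map_of_injective (MulAut.conj g).injective]

theorem half [Finite G] (S : Sylow 2 G) {So L H V : Subgroup G} {z : G}
    (hSo : So ≤ (S : Subgroup G)) (hidx : Nat.card (S : Subgroup G) = 2 * Nat.card So)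
    (hz1 : z ≠ 1) (hz2 : z ^ 2 = 1) (hz : z ∈ So) (hHz : ∀ x ∈ H, x * z = z * x)
    (hH : H ⊓ centralizer (o2 H : Set G) ≤ o2 H)
    (hSL : So ≤ L) (hLH : L ≤ H) (hSyl : ¬ 2 ∣ So.relIndex L)
    (hVS : V ≤ So) (hLV : L ≤ normalizer (V : Set G))
    (hcomm : ∀ a ∈ V, ∀ b ∈ V, a * b = b * a) (hsq : ∀ a ∈ V, a ^ 2 = 1)
    (hirr : ∀ X : Subgroup G, X ≤ V → L ≤ normalizer (X : Set G) → X = ⊥ ∨ X = V)
    (hnt : V ⊓ centralizer (L : Set G) = ⊥) (hO : o2 L ≤ centralizer (V : Set G))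
    (hcard : Nat.card (zc (S : Subgroup G)) ≤
      Nat.card (V ⊓ centralizer (So : Set G) : Subgroup G)) :
    V ≤ o2 H ∧ o2 H ≤ centralizer (V : Set G) := by
  have : Fact (Nat.Prime 2) := ⟨Nat.prime_two⟩
  have hSo2 : IsPGroup 2 So := S.isPGroup'.to_le hSo
  have hVH : V ≤ H := (hVS.trans hSL).trans hLH
  have hVL : V ≤ L := hVS.trans hSL
  have hV2 : IsPGroup 2 V := hSo2.to_le hVS
  -- it is enough that `O₂(H)` centralises `V`
  suffices hW : o2 H ≤ centralizer (V : Set G) from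
    ⟨fun v hv => hH ⟨hVH hv, mem_centralizer_iff.mpr fun x hx =>
      (mem_centralizer_iff.mp (hW hx) v hv).symm⟩, hW⟩
  have hLW : L ≤ normalizer (o2 H : Set G) := hLH.trans (le_normalizer_o2 H)
  have hWL : L ≤ normalizer ((o2 H ⊓ L : Subgroup G) : Set G) :=
    le_normalizer_inf hLW le_normalizer
  have hWL2 : o2 H ⊓ L ≤ o2 L :=
    le_o2 inf_le_right ((o2_isPGroup H).to_le inf_le_left) hWL
  have hWLSo : o2 H ⊓ L ≤ So := hWL2.trans (o2_le_of_sylow hSo2 hSyl)
  by_cases hWS : o2 H ≤ So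
  · exact fun x hx => hO (hWL2 ⟨hx, hSL (hWS hx)⟩)
  obtain ⟨w, hwW, hwS⟩ := SetLike.not_le_iff_exists.mp hWS
  obtain ⟨T, hSoT, hTH, hT2, hTS⟩ := exists_sylow_le hSo2 (hSL.trans hLH)
  have hWT : o2 H ≤ T := o2_le_of_sylow hT2 hTS
  have hTle : Nat.card T ≤ 2 * Nat.card So := hidx ▸ card_le_sylow S hT2
  have hrel : Nat.card So * So.relIndex T = Nat.card T := by
    have := card_mul_relIndex hSoT
    exact this
  have hne : So.relIndex T ≠ 1 := fun h => hwS ((relIndex_eq_one.mp h) (hWT hwW))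
  have hne0 : So.relIndex T ≠ 0 := fun h => by
    rw [h, mul_zero] at hrel
    exact Nat.card_pos.ne hrel
  have hrel2 : So.relIndex T = 2 := by
    have h1 : So.relIndex T ≤ 2 := by
      by_contra h
      push Not at h
      have h3 : 2 * Nat.card So < Nat.card So * So.relIndex T := by
        rw [mul_comm]
        exact Nat.mul_lt_mul_of_pos_left h Nat.card_pos
      omega
    omega
  have htwo : ∀ a ∈ T, ∀ b ∈ T, a ∉ So → b ∉ So → a⁻¹ * b ∈ So := by
    intro a ha b hb ha1 hb1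
    have h1 : (So.subgroupOf T).index = 2 := hrel2
    have h2 := mul_mem_iff_of_index_two h1 (a := (⟨a, ha⟩ : T)⁻¹) (b := ⟨b, hb⟩)
    rw [inv_mem_iff] at h2
    have h3 := h2.mpr (iff_of_false (fun h => ha1 (mem_subgroupOf.mp h))
      (fun h => hb1 (mem_subgroupOf.mp h)))
    exact mem_subgroupOf.mp h3
  have hW0c : o2 H ⊓ So ≤ centralizer (V : Set G) := fun x hx => hO (hWL2 ⟨hx.1, hSL hx.2⟩)
  have hw : ∀ g ∈ L, w⁻¹ * (g * w * g⁻¹) ∈ o2 H ⊓ So := by
    intro g hg
    have h1 : g * w * g⁻¹ ∈ o2 H := (mem_normalizer_iff.mp (hLW hg) w).mp hwW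
    have h2 : g * w * g⁻¹ ∉ So := by
      intro h
      have h3 := (mem_normalizer_iff.mp (hWL hg) w).mpr ⟨h1, hSL h⟩
      exact hwS (hWLSo h3)
    exact ⟨(o2 H).mul_mem ((o2 H).inv_mem hwW) h1, htwo _ (hWT hwW) _ (hWT h1) hwS h2⟩
  -- it is enough that `w` centralises `V`
  suffices hwV : ∀ v ∈ V, w * v = v * w by
    intro x hx
    by_cases hxS : x ∈ So
    · exact hW0c ⟨hx, hxS⟩
    · have h1 : w⁻¹ * x ∈ centralizer (V : Set G) :=
        hW0c ⟨(o2 H).mul_mem ((o2 H).inv_mem hwW) hx, htwo _ (hWT hwW) _ (hWT hx) hwS hxS⟩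
      have h2 : w ∈ centralizer (V : Set G) :=
        mem_centralizer_iff.mpr fun v hv => (hwV v hv).symm
      have := mul_mem h2 h1
      rwa [mul_inv_cancel_left] at this
  have hcomm' : ∀ u ∈ V, ∀ v ∈ V, u * (w * v * w⁻¹) = (w * v * w⁻¹) * u :=
    fun u hu v hv => comm_conj hLV hVL hw hW0c hcomm hu hv
  have hw2 : w * w ∈ So := by
    have h := htwo w⁻¹ (inv_mem (hWT hwW)) w (hWT hwW) (fun h => hwS (inv_mem_iff.mp h)) hwS
    rwa [inv_inv] at h
  have hwwc : ∀ v ∈ V, w * w * v = v * (w * w) := fun v hv =>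
    (mem_centralizer_iff.mp (hW0c ⟨mul_mem hwW hwW, hw2⟩) v hv).symm
  rcases hirr _ inf_le_left (inf_invariant hLV hw hW0c) with h0 | h0
  · -- `V ∩ V^w = 1`
    exfalso
    have hinj : ∀ a ∈ V, ∀ b ∈ V, a * (w * a * w⁻¹) = b * (w * b * w⁻¹) → a = b := by
      intro a ha b hb hab
      have h1 : b⁻¹ * a = w * (b * a⁻¹) * w⁻¹ := by
        calc b⁻¹ * a = b⁻¹ * (a * (w * a * w⁻¹)) * (w * a * w⁻¹)⁻¹ := by group
          _ = b⁻¹ * (b * (w * b * w⁻¹)) * (w * a * w⁻¹)⁻¹ := by rw [hab]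
          _ = w * (b * a⁻¹) * w⁻¹ := by group
      have h2 : b⁻¹ * a ∈ V ⊓ V.map (MulAut.conj w).toMonoidHom :=
        ⟨V.mul_mem (V.inv_mem hb) ha, b * a⁻¹, V.mul_mem hb (V.inv_mem ha), by simpa using h1.symm⟩
      rw [h0, mem_bot] at h2
      exact (inv_mul_eq_one.mp h2).symm
    have hmem : ∀ a ∈ V ⊓ centralizer (So : Set G), a * (w * a * w⁻¹) ∈ zc T := by
      rintro a ⟨ha, hac⟩
      have hac' : ∀ s ∈ So, s * a = a * s := fun s hs => mem_centralizer_iff.mp hac s hs
      have hphi : a * (w * a * w⁻¹) ∈ T :=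
        mul_mem (hSoT (hVS ha)) (mul_mem (mul_mem (hWT hwW) (hSoT (hVS ha))) (inv_mem (hWT hwW)))
      have hsqa : a * a = 1 := by rw [← pow_two]; exact hsq a ha
      have h2 : (a * (w * a * w⁻¹)) ^ 2 = 1 := by
        rw [pow_two]
        calc a * (w * a * w⁻¹) * (a * (w * a * w⁻¹)) = a * ((w * a * w⁻¹) * a) * (w * a * w⁻¹) := by group
          _ = a * (a * (w * a * w⁻¹)) * (w * a * w⁻¹) := by rw [hcomm' a ha a ha]
          _ = (a * a) * (w * (a * a) * w⁻¹) := by group
          _ = 1 := by rw [hsqa]; group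
      have hSocomm : ∀ s ∈ So, s * (a * (w * a * w⁻¹)) = (a * (w * a * w⁻¹)) * s := by
        intro s hs
        have h3 := equivariant hLV hw hW0c (hSL hs) ha
        have h4 : s * a * s⁻¹ = a := by rw [hac' s hs]; group
        rw [h4] at h3
        calc s * (a * (w * a * w⁻¹)) = (s * a) * (w * a * w⁻¹) := by group
          _ = (a * s) * (w * a * w⁻¹) := by rw [hac' s hs]
          _ = a * (s * (w * a * w⁻¹) * s⁻¹) * s := by group
          _ = a * (w * a * w⁻¹) * s := by rw [h3]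
      have hwcomm : w * (a * (w * a * w⁻¹)) = (a * (w * a * w⁻¹)) * w := by
        calc w * (a * (w * a * w⁻¹)) = (w * a * w⁻¹) * ((w * w) * a * (w * w)⁻¹) * w := by group
          _ = (w * a * w⁻¹) * a * w := by rw [hwwc a ha]; group
          _ = (a * (w * a * w⁻¹)) * w := by rw [← hcomm' a ha a ha]
      refine mem_zc.mpr ⟨hphi, fun y hy => ?_, h2⟩
      by_cases hyS : y ∈ So
      · exact hSocomm y hyS
      · have h5 : w⁻¹ * y ∈ So := htwo _ (hWT hwW) _ hy hwS hyS
        have h6 := hSocomm _ h5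
        calc y * (a * (w * a * w⁻¹)) = w * ((w⁻¹ * y) * (a * (w * a * w⁻¹))) := by group
          _ = w * (a * (w * a * w⁻¹)) * (w⁻¹ * y) := by rw [h6]; group
          _ = (a * (w * a * w⁻¹)) * y := by rw [hwcomm]; group
    have hcT : Nat.card T = Nat.card (S : Subgroup G) := by
      rw [← hrel, hrel2, hidx, mul_comm]
    have hczc := card_zc_of_card_eq S hT2 hcT
    have hzT : z ∈ zc T :=
      mem_zc.mpr ⟨hSoT hz, fun y hy => hHz y (hTH hy), hz2⟩
    let f : (V ⊓ centralizer (So : Set G) : Subgroup G) → zc T :=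
      fun a => ⟨(a : G) * (w * a * w⁻¹), hmem a a.2⟩
    have hf : Function.Injective f := by
      intro a b hab
      exact Subtype.ext (hinj a a.2.1 b b.2.1 (congrArg Subtype.val hab))
    have hbij : Function.Bijective f := by
      refine (Nat.bijective_iff_injective_and_card f).mpr ⟨hf, ?_⟩
      refine le_antisymm (Nat.card_le_card_of_injective f hf) ?_
      rw [hczc]; exact hcard
    obtain ⟨a, ha⟩ := hbij.2 ⟨z, hzT⟩
    have ha' : (a : G) * (w * a * w⁻¹) = z := congrArg Subtype.val ha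
    have ha1 : (a : G) ∈ V ⊓ centralizer (L : Set G) := by
      refine ⟨a.2.1, mem_centralizer_iff.mpr fun g hg => ?_⟩
      have h3 := equivariant hLV hw hW0c hg a.2.1
      have h4 : g * z * g⁻¹ = z := by rw [hHz g (hLH hg)]; group
      have h5 : (g * a * g⁻¹) * (w * (g * a * g⁻¹) * w⁻¹) = a * (w * a * w⁻¹) := by
        rw [← h3]
        calc (g * a * g⁻¹) * (g * (w * a * w⁻¹) * g⁻¹) = g * (a * (w * a * w⁻¹)) * g⁻¹ := by group
          _ = a * (w * a * w⁻¹) := by rw [ha', h4]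
      have h6 := hinj _ ((mem_normalizer_iff.mp (hLV hg) _).mp a.2.1) _ a.2.1 h5
      calc g * a = (g * a * g⁻¹) * g := by group
        _ = a * g := by rw [h6]
    rw [hnt, mem_bot] at ha1
    rw [ha1] at ha'
    exact hz1 (by rw [← ha']; group)
  · -- `V^w = V`
    have hnorm : w ∈ normalizer (V : Set G) := by
      have h1 : V ≤ V.map (MulAut.conj w).toMonoidHom := by
        exact h0.symm.le.trans inf_le_right
      have h2 : V = V.map (MulAut.conj w).toMonoidHom :=
        eq_of_le_of_card_ge h1 (card_map_of_injective (MulAut.conj w).injective).le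
      exact mem_normalizer_of_map_le h2.symm.le
    rcases hirr _ inf_le_left (cent_invariant hLV hw hW0c) with h1 | h1
    · by_cases hVb : V = ⊥
      · intro v hv
        rw [hVb, mem_bot] at hv
        rw [hv, mul_one, one_mul]
      obtain ⟨v, hv, hv1, hvw⟩ := exists_fixed hV2 hVb
        ((o2_isPGroup H).to_le (zpowers_le.mpr hwW)) (zpowers_le.mpr hnorm)
      exfalso
      have h2 : v ∈ V ⊓ centralizer ({w} : Set G) := by
        refine ⟨hv, mem_centralizer_iff.mpr ?_⟩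
        intro y hy
        rw [Set.mem_singleton_iff.mp hy]
        have := hvw w (mem_zpowers w)
        calc w * v = (w * v * w⁻¹) * w := by group
          _ = v * w := by rw [this]
      rw [h1, mem_bot] at h2
      exact hv1 h2
    · intro v hv
      have h2 : v ∈ V ⊓ centralizer ({w} : Set G) := by rw [h1]; exact hv
      exact mem_centralizer_iff.mp h2.2 w rfl

end Cfsg.Agent.Omega.Half
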