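import Cfsg.Agent.Omega.Half.Gen
import Cfsg.Agent.Omega.Half.Blocks
import Cfsg.Agent.Omega.FFThm

/-!
# HALF LEMMA, APPLICATIONS 1 and 3, natural modules (project OMEGA, job 168; text helper7 #11954)

`M : NatK F T H V ⊥ k` (`V` a sum of `k` natural `SL₂(F)`-modules for `H`, `T` transitive on the summands),
`fac M B` = the elements of `V` with support in `B ⊆ Fin k`; `B` is one of two blocks of `T` (`Blk M B`).

* `app_nat` : if `u ∈ fac M B` has full support in `B` then `fac M Bᶜ ≤ Z(O₂(C_G(u)))`;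
* `exists_blk` : for `k ≥ 2` there are two blocks;
* `app_two`, `app_two'` : `k = 2`: for `1 ≠ v ∈ V_i` the other summand `V_j` lies in `Z(O₂(C_G(v)))`.
-/

set_option autoImplicit false

namespace Cfsg.Agent.Omega.Half

open Subgroup Cfsg Cfsg.Agent.ZN Cfsg.Agent.Omega.FFThm Cfsg.Agent.Omega.MinPar
open Cfsg.Agent.ZN.ChoiceBase hiding mem_zc
open Cfsg.Agent.Omega.NatPair (ap exists_ap ap_one ap_add)
open Cfsg.Agent.MinSimple.VModule (mem_zc zc_le)

universe u

variable {G : Type u} [Group G] {F : Type} [Field F] {T H V : Subgroup G} {k : ℕ}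

/-- The ambient facts on `V = zl T H`. -/
structure Amb (T H V : Subgroup G) : Prop where
  TH : T ≤ H
  VT : V ≤ T
  HV : H ≤ normalizer (V : Set G)
  comm : ∀ a ∈ V, ∀ b ∈ V, a * b = b * a
  sq : ∀ a ∈ V, a ^ 2 = 1
  zc : zc T ≤ V

theorem Amb.conj_mem (h : Amb T H V) {g v : G} (hg : g ∈ H) (hv : v ∈ V) : g * v * g⁻¹ ∈ V :=
  (mem_normalizer_iff.1 (h.HV hg) v).1 hv

/-- The ambient facts for `V = V_P`, `P ∈ L(S)`. -/
theorem amb_of_loc [Finite G] (hG : IsCharacteristicTwoType G) (S : Sylow 2 G) {P : Subgroup G}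
    (h : IsLoc (S : Subgroup G) P) : Amb (S : Subgroup G) P (zl (S : Subgroup G) P) where
  TH := h.le
  VT := (h.zl_le S hG).trans ((zc_le _).trans (h.o2_le S))
  HV := MinSimple.VModule.le_normalizer_zl _ _
  comm := MinSimple.VModule.zl_comm h.le S.isPGroup' (MinSimple.Basic.not_dvd_relIndex S h.le) (h.char2 S hG)
  sq := MinSimple.VModule.zl_sq h.le S.isPGroup' (MinSimple.Basic.not_dvd_relIndex S h.le) (h.char2 S hG)
  zc := MinSimple.VModule.zc_le_zl _ _

theorem ap_zero (A : Matrix.SpecialLinearGroup (Fin 2) F) : ap A 0 = 0 := by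
  have h := ap_add A 0 0
  rw [add_zero] at h
  exact left_eq_add.1 h

theorem exists_ne_ne (w : Fin 2 → F) : ∃ y : Fin 2 → F, y ≠ 0 ∧ y ≠ w := by
  by_cases h0 : w 0 = 0
  · refine ⟨![1, 0], fun h => one_ne_zero (congrFun h 0), fun h => ?_⟩
    have := congrFun h 0
    rw [h0] at this
    exact one_ne_zero this
  · refine ⟨![0, 1], fun h => one_ne_zero (congrFun h 1), fun h => ?_⟩
    exact h0 (congrFun h 0).symm

namespace NatA

section basic

variable (M : NatK F T H V ⊥ k)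

theorem e_one : M.e 1 = 0 := by
  have h := M.mul 1 (one_mem V) 1 (one_mem V)
  rw [one_mul] at h
  exact left_eq_add.1 h

theorem e_inv {v : G} (hv : v ∈ V) : M.e v⁻¹ = -M.e v := by
  have h := M.mul v hv v⁻¹ (inv_mem hv)
  rw [mul_inv_cancel, e_one] at h
  exact (neg_eq_of_add_eq_zero_right h.symm).symm

theorem eq_one {v : G} (hv : v ∈ V) (h : M.e v = 0) : v = 1 := mem_bot.1 ((M.ker v hv).1 h)

theorem inj {v w : G} (hv : v ∈ V) (hw : w ∈ V) (h : M.e v = M.e w) : v = w := by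
  rw [← mul_inv_eq_one]
  apply eq_one M (mul_mem hv (inv_mem hw))
  rw [M.mul v hv _ (inv_mem hw), e_inv M hw, h, add_neg_cancel]

/-- the elements of `V` with support in `B` -/
def fac (B : Set (Fin k)) : Subgroup G where
  carrier := {v | v ∈ V ∧ ∀ i, i ∉ B → M.e v i = 0}
  mul_mem' := by
    rintro v w ⟨hv, h1⟩ ⟨hw, h2⟩
    refine ⟨mul_mem hv hw, fun i hi => ?_⟩
    rw [M.mul v hv w hw, Pi.add_apply, h1 i hi, h2 i hi, add_zero]
  one_mem' := ⟨one_mem V, fun i _ => by rw [e_one]; rfl⟩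
  inv_mem' := by
    rintro v ⟨hv, h1⟩
    refine ⟨inv_mem hv, fun i hi => ?_⟩
    rw [e_inv M hv, Pi.neg_apply, h1 i hi, neg_zero]

theorem mem_fac {B : Set (Fin k)} {v : G} : v ∈ fac M B ↔ v ∈ V ∧ ∀ i, i ∉ B → M.e v i = 0 := Iff.rfl

theorem fac_le (B : Set (Fin k)) : fac M B ≤ V := fun _ h => h.1

/-- `g` moves the summands by `σ` -/
def Mv (g : G) (σ : Equiv.Perm (Fin k)) : Prop :=
  ∀ v ∈ V, ∀ i, M.e (g * v * g⁻¹) (σ i) = 0 ↔ M.e v i = 0

theorem fac_inf_compl {B : Set (Fin k)} {v : G} (h1 : v ∈ fac M B) (h2 : v ∈ fac M Bᶜ) : v = 1 := by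
  apply eq_one M h1.1
  funext i
  by_cases hi : i ∈ B
  · exact h2.2 i (fun h => h hi)
  · exact h1.2 i hi

/-- an element of `V` with given coordinates in `B` and 0 outside -/
theorem exists_fac (B : Set (Fin k)) (x : Fin k → Fin 2 → F) : ∃ v ∈ fac M B, ∀ i ∈ B, M.e v i = x i := by
  classical
  obtain ⟨v, hv, hx⟩ := M.surj fun i => if i ∈ B then x i else 0
  refine ⟨v, ⟨hv, fun i hi => ?_⟩, fun i hi => ?_⟩
  · rw [hx]; exact if_neg hi
  · rw [hx]; exact if_pos hi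

theorem exists_ne (i : Fin k) : ∃ v ∈ fac M {i}, M.e v i ≠ 0 := by
  obtain ⟨v, hv, h⟩ := exists_fac M {i} fun _ => ![1, 0]
  refine ⟨v, hv, ?_⟩
  rw [h i rfl]
  intro h0
  exact one_ne_zero (congrFun h0 0)

end basic

section amb

variable (M : NatK F T H V ⊥ k) (hA : Amb T H V)

include hA

theorem Mv.conj {g : G} {σ : Equiv.Perm (Fin k)} (h : Mv M g σ) (hg : g ∈ H) {B : Set (Fin k)} {v : G}
    (hv : v ∈ fac M B) : g * v * g⁻¹ ∈ fac M (σ '' B) := by
  refine ⟨hA.conj_mem hg hv.1, fun i hi => ?_⟩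
  have h1 : σ (σ.symm i) = i := σ.apply_symm_apply i
  rw [← h1, h v hv.1]
  apply hv.2
  intro h2
  exact hi ⟨_, h2, h1⟩

theorem Mv.inv {g : G} {σ : Equiv.Perm (Fin k)} (h : Mv M g σ) (hg : g ∈ H) : Mv M g⁻¹ σ.symm := by
  intro v hv i
  have h1 := h (g⁻¹ * v * g⁻¹⁻¹) (hA.conj_mem (inv_mem hg) hv) (σ.symm i)
  rw [σ.apply_symm_apply] at h1
  rw [← h1]
  have h2 : g * (g⁻¹ * v * g⁻¹⁻¹) * g⁻¹ = v := by group
  rw [h2]

theorem Mv.unique {g : G} {σ : Equiv.Perm (Fin k)} (h : Mv M g σ) (hg : g ∈ H) {i j : Fin k}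
    (hj : ∀ v ∈ V, M.e (g * v * g⁻¹) j = 0 ↔ M.e v i = 0) : σ i = j := by
  by_contra hne
  obtain ⟨w, hw, hwj⟩ := exists_ne M j
  have h1 : g⁻¹ * w * g⁻¹⁻¹ ∈ V := hA.conj_mem (inv_mem hg) hw.1
  have h2 : g * (g⁻¹ * w * g⁻¹⁻¹) * g⁻¹ = w := by group
  have h3 := h _ h1 i
  have h4 := hj _ h1
  rw [h2] at h3 h4
  exact hwj (h4.2 (h3.1 (hw.2 _ hne)))

end amb

/-! ### Two blocks -/

/-- `B` and `Bᶜ` are blocks of `T` on the summands. -/
structure Blk (M : NatK F T H V ⊥ k) (B : Set (Fin k)) : Prop where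
  ne : B.Nonempty
  ne' : Bᶜ.Nonempty
  blk : ∀ t ∈ T, ∀ σ, Mv M t σ → σ '' B = B ∨ σ '' B = Bᶜ

section blk

variable {M : NatK F T H V ⊥ k} {B : Set (Fin k)} (hA : Amb T H V) (hB : Blk M B)

include hA hB

theorem mem_nor {t : G} (ht : t ∈ T) {σ : Equiv.Perm (Fin k)} (hσ : Mv M t σ) :
    t ∈ normalizer (fac M B : Set G) ↔ σ '' B = B := by
  constructor
  · intro h
    rcases hB.blk t ht σ hσ with h1 | h1
    · exact h1
    · exfalso
      obtain ⟨i, hi⟩ := hB.ne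
      obtain ⟨v, hv, hvi⟩ := exists_ne M i
      have hvB : v ∈ fac M B := ⟨hv.1, fun j hj => hv.2 j fun h => hj (h ▸ hi)⟩
      have h2 := (mem_normalizer_iff.1 h v).1 hvB
      have h3 := hσ.conj M hA (hA.TH ht) hvB
      rw [h1] at h3
      have h4 := fac_inf_compl M h2 h3
      rw [mul_inv_eq_one] at h4
      have h5 : v = 1 := by
        have := mul_left_cancel (h4.trans (mul_one t).symm)
        exact this
      rw [h5, e_one] at hvi
      exact hvi rfl
  · intro h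
    rw [mem_normalizer_iff]
    intro v
    constructor
    · intro hv
      have := hσ.conj M hA (hA.TH ht) hv
      rwa [h] at this
    · intro hv
      have h1 := (hσ.inv M hA (hA.TH ht)).conj M hA (inv_mem (hA.TH ht)) hv
      have h2 : σ.symm '' B = B := by
        conv_lhs => rw [← h]
        rw [← Set.image_comp]
        simp
      rw [h2] at h1
      have h3 : t⁻¹ * (t * v * t⁻¹) * t⁻¹⁻¹ = v := by group
      rwa [h3] at h1

omit hA hB in
theorem image_compl (σ : Equiv.Perm (Fin k)) : σ '' Bᶜ = (σ '' B)ᶜ := Set.image_compl_eq σ.bijective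

/-- the block stabiliser -/
def So (M : NatK F T H V ⊥ k) (B : Set (Fin k)) : Subgroup G := T ⊓ normalizer (fac M B : Set G)

theorem mem_So {t : G} (ht : t ∈ T) {σ : Equiv.Perm (Fin k)} (hσ : Mv M t σ) : t ∈ So M B ↔ σ '' B = B := by
  rw [So, mem_inf, mem_nor hA hB ht hσ]
  exact and_iff_right ht

omit hB in
theorem exists_mv {t : G} (ht : t ∈ T) : ∃ σ, Mv M t σ := M.perm t (hA.TH ht)

omit hA in
theorem Blk.compl : Blk M Bᶜ := by
  refine ⟨hB.ne', by rw [compl_compl]; exact hB.ne, fun t ht σ hσ => ?_⟩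
  rw [image_compl, compl_compl]
  rcases hB.blk t ht σ hσ with h | h
  · left; rw [h]
  · right; rw [h, compl_compl]

theorem So_compl : So M Bᶜ = So M B := by
  ext t
  by_cases ht : t ∈ T
  · obtain ⟨σ, hσ⟩ := exists_mv (M := M) hA ht
    rw [mem_So hA hB.compl ht hσ, mem_So hA hB ht hσ, image_compl]
    exact compl_inj_iff
  · exact iff_of_false (fun h => ht h.1) (fun h => ht h.1)

/-- `So` is transitive on `B`. -/
theorem exists_move {i j : Fin k} (hi : i ∈ B) (hj : j ∈ B) : ∃ t ∈ So M B, ∃ σ, Mv M t σ ∧ σ i = j := by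
  obtain ⟨t, ht, h⟩ := M.trans i j
  obtain ⟨σ, hσ⟩ := exists_mv (M := M) hA ht
  have h1 := hσ.unique M hA (hA.TH ht) h
  refine ⟨t, ?_, σ, hσ, h1⟩
  rw [mem_So hA hB ht hσ]
  rcases hB.blk t ht σ hσ with h2 | h2
  · exact h2
  · exfalso
    have h3 : j ∈ Bᶜ := by rw [← h2, ← h1]; exact ⟨i, hi, rfl⟩
    exact h3 hj

theorem exists_swap : ∃ s ∈ T, s ∉ So M B := by
  obtain ⟨i, hi⟩ := hB.ne
  obtain ⟨j, hj⟩ := hB.ne'
  obtain ⟨t, ht, h⟩ := M.trans i j
  obtain ⟨σ, hσ⟩ := exists_mv (M := M) hA ht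
  have h1 := hσ.unique M hA (hA.TH ht) h
  refine ⟨t, ht, fun h2 => hj ?_⟩
  rw [mem_So hA hB ht hσ] at h2
  rw [← h2, ← h1]
  exact ⟨i, hi, rfl⟩

theorem card_So [Finite G] : Nat.card T = 2 * Nat.card (So M B) := by
  have hle : So M B ≤ T := inf_le_left
  obtain ⟨s, hs, hsn⟩ := exists_swap hA hB
  have htwo : ∀ a ∈ T, ∀ b ∈ T, a ∉ So M B → b ∉ So M B → a * b ∈ So M B := by
    intro a ha b hb hna hnb
    obtain ⟨σ, hσ⟩ := exists_mv (M := M) hA ha
    obtain ⟨τ, hτ⟩ := exists_mv (M := M) hA hb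
    have h1 : Mv M (a * b) (σ * τ) := by
      intro v hv i
      have e1 : a * b * v * (a * b)⁻¹ = a * (b * v * b⁻¹) * a⁻¹ := by group
      rw [e1, Equiv.Perm.mul_apply, hσ _ (hA.conj_mem (hA.TH hb) hv), hτ v hv]
    rw [mem_So hA hB ha hσ] at hna
    rw [mem_So hA hB hb hτ] at hnb
    rw [mem_So hA hB (mul_mem ha hb) h1]
    have h2 := (hB.blk a ha σ hσ).resolve_left hna
    have h3 := (hB.blk b hb τ hτ).resolve_left hnb
    rw [Equiv.Perm.coe_mul, Set.image_comp, h3, image_compl, h2, compl_compl]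
  have hrel : (So M B).relIndex T = 2 := by
    rw [relIndex, index_eq_two_iff]
    refine ⟨⟨s, hs⟩, fun b => ?_⟩
    simp only [mem_subgroupOf, Subgroup.coe_mul]
    by_cases hb : (b : G) ∈ So M B
    · right
      refine ⟨hb, fun h => hsn ?_⟩
      rwa [Subgroup.mul_mem_cancel_left _ hb] at h
    · left
      exact ⟨htwo _ b.2 _ hs hb hsn, hb⟩
  rw [← card_mul_relIndex hle, hrel, mul_comm]


/-! ### The block element -/

omit hA hB in
theorem fac_ne_bot {i : Fin k} (hi : i ∈ B) : fac M B ≠ ⊥ := by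
  intro h
  obtain ⟨v, hv, hvi⟩ := exists_ne M i
  have hvB : v ∈ fac M B := ⟨hv.1, fun j hj => hv.2 j fun h => hj (h ▸ hi)⟩
  rw [h, mem_bot] at hvB
  rw [hvB, e_one] at hvi
  exact hvi rfl

theorem full {z : G} (hz : z ∈ fac M B) (hz1 : z ≠ 1) (hc : ∀ t ∈ So M B, t * z * t⁻¹ = z) {i : Fin k}
    (hi : i ∈ B) : M.e z i ≠ 0 := by
  intro h0
  apply hz1
  apply eq_one M hz.1
  funext j
  by_cases hj : j ∈ B
  · obtain ⟨t, ht, σ, hσ, h1⟩ := exists_move hA hB hj hi
    have h2 := hσ z hz.1 j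
    rw [hc t ht, h1] at h2
    exact h2.1 h0
  · exact hz.2 j hj

theorem fus {z g : G} (hz : z ∈ fac M B) (hz1 : z ≠ 1) (hc : ∀ t ∈ So M B, t * z * t⁻¹ = z) (hg : g ∈ H) :
    ¬ ∀ s ∈ T, s * (g * z * g⁻¹) = g * z * g⁻¹ * s := by
  intro h
  obtain ⟨i, hi⟩ := hB.ne
  obtain ⟨j, hj⟩ := hB.ne'
  obtain ⟨σ, hσ⟩ := M.perm g hg
  obtain ⟨t, ht, h1⟩ := M.trans (σ i) (σ j)
  have h2 := h1 _ (hA.conj_mem hg hz.1)
  have h3 : t * (g * z * g⁻¹) * t⁻¹ = g * z * g⁻¹ := by rw [h t ht]; group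
  rw [h3, hσ z hz.1, hσ z hz.1] at h2
  exact full hA hB hz hz1 hc hi (h2.1 (hz.2 j hj))

/-- the group `L` -/
def LL (M : NatK F T H V ⊥ k) (B : Set (Fin k)) (z : G) : Subgroup G :=
  H ⊓ centralizer ({z} : Set G) ⊓ normalizer (fac M Bᶜ : Set G)

theorem So_le_LL {z : G} (hc : ∀ t ∈ So M B, t * z * t⁻¹ = z) : So M B ≤ LL M B z := by
  intro t ht
  refine ⟨⟨hA.TH ht.1, mem_centralizer_singleton_iff.2 ?_⟩, ?_⟩
  · have := hc t ht
    calc t * z = (t * z * t⁻¹) * t := by group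
      _ = z * t := by rw [this]
  · rw [← So_compl hA hB] at ht
    exact ht.2

omit hB in
/-- the elements of `L` acting on one summand of `Bᶜ` -/
theorem exists_LL [DecidableEq (Fin k)] {z : G} (hz : z ∈ fac M B) {i : Fin k} (hi : i ∉ B)
    (A : Matrix.SpecialLinearGroup (Fin 2) F) :
    ∃ g ∈ LL M B z, ∀ v ∈ V, (M.e (g * v * g⁻¹) i = ap A (M.e v i)) ∧
      ∀ j, j ≠ i → M.e (g * v * g⁻¹) j = M.e v j := by
  obtain ⟨g, hg, hgA, -⟩ := M.lift (Function.update 1 i A)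
  have h1 : ∀ v ∈ V, M.e (g * v * g⁻¹) i = ap A (M.e v i) := fun v hv => by
    rw [hgA v hv i, Function.update_self]
  have h2 : ∀ v ∈ V, ∀ j, j ≠ i → M.e (g * v * g⁻¹) j = M.e v j := fun v hv j hj => by
    rw [hgA v hv j, Function.update_of_ne hj, Pi.one_apply, ap_one]
  refine ⟨g, ⟨⟨hg, mem_centralizer_singleton_iff.2 ?_⟩, ?_⟩, fun v hv => ⟨h1 v hv, h2 v hv⟩⟩
  · have h3 : g * z * g⁻¹ = z := by
      apply inj M (hA.conj_mem hg hz.1) hz.1
      funext j
      by_cases hj : j = i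
      · rw [hj, h1 z hz.1, hz.2 i hi, ap_zero]
      · exact h2 z hz.1 j hj
    calc g * z = (g * z * g⁻¹) * g := by group
      _ = z * g := by rw [h3]
  · show g ∈ normalizer (fac M Bᶜ : Set G)
    rw [mem_normalizer_iff]
    intro v
    constructor
    · intro hv
      refine ⟨hA.conj_mem hg hv.1, fun j hj => ?_⟩
      rw [h2 v hv.1 j fun h => hj (h ▸ hi)]
      exact hv.2 j hj
    · intro hv
      have hvV : v ∈ V := (mem_normalizer_iff.1 (hA.HV hg) v).2 hv.1
      refine ⟨hvV, fun j hj => ?_⟩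
      rw [← h2 v hvV j fun h => hj (h ▸ hi)]
      exact hv.2 j hj

theorem irr {z : G} (hz : z ∈ fac M B) (hc : ∀ t ∈ So M B, t * z * t⁻¹ = z) (X : Subgroup G)
    (hX : X ≤ fac M Bᶜ) (hLX : LL M B z ≤ normalizer (X : Set G)) (hX1 : X ≠ ⊥) : X = fac M Bᶜ := by
  classical
  obtain ⟨⟨x, hx⟩, hx1⟩ := ne_bot_iff_exists_ne_one.1 hX1
  replace hx1 : x ≠ 1 := fun h => hx1 (Subtype.ext h)
  obtain ⟨i, hxi⟩ : ∃ i, M.e x i ≠ 0 := by
    by_contra h
    push Not at h
    exact hx1 (eq_one M (hX hx).1 (funext h))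
  have hiB : i ∉ B := fun h => hxi ((hX hx).2 i fun h' => h' h)
  -- from a nonzero coordinate at `i`
  have key : ∀ x ∈ X, M.e x i ≠ 0 → ∀ y : Fin 2 → F, y ≠ -M.e x i → ∀ v ∈ fac M {i}, M.e v i = y → v ∈ X := by
    intro x hx hxi y hy v hv hvy
    obtain ⟨A, hAy⟩ := exists_ap hxi (y := y + M.e x i) fun h => hy (eq_neg_of_add_eq_zero_left h)
    obtain ⟨g, hg, hgv⟩ := exists_LL hA hz hiB A
    have h1 : g * x * g⁻¹ ∈ X := (mem_normalizer_iff.1 (hLX hg) x).1 hx
    have h2 : g * x * g⁻¹ * x⁻¹ = v := by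
      have hxV := (hX hx).1
      apply inj M (mul_mem (hX h1).1 (inv_mem hxV)) hv.1
      rw [M.mul _ (hX h1).1 _ (inv_mem hxV), e_inv M hxV]
      funext j
      rw [Pi.add_apply, Pi.neg_apply]
      by_cases hj : j = i
      · rw [hj, (hgv x hxV).1, hAy, hvy, add_neg_cancel_right]
      · rw [(hgv x hxV).2 j hj, add_neg_cancel]
        exact (hv.2 j hj).symm
    rw [← h2]
    exact mul_mem h1 (inv_mem hx)
  -- the whole summand `i`
  have hi : fac M {i} ≤ X := by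
    -- an auxiliary vector different from `0` and `-e x i`
    obtain ⟨y, hy0, hy1⟩ := exists_ne_ne (-M.e x i)
    obtain ⟨w, hw, hwy⟩ := exists_fac M {i} fun _ => y
    have hwy := hwy i rfl
    have hwX := key x hx hxi y hy1 w hw hwy
    have hwi : M.e w i ≠ 0 := by rw [hwy]; exact hy0
    intro v hv
    by_cases h1 : M.e v i = -M.e w i
    · -- `v w` has coordinate 0
      have h2 : v * w = 1 := by
        apply eq_one M (mul_mem hv.1 hw.1)
        rw [M.mul v hv.1 w hw.1]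
        funext j
        rw [Pi.add_apply]
        by_cases hj : j = i
        · rw [hj, h1, neg_add_cancel]; rfl
        · rw [hv.2 j hj, hw.2 j hj, add_zero]; rfl
      rw [eq_inv_of_mul_eq_one_left h2]
      exact inv_mem hwX
    · exact key w hwX hwi _ h1 v hv rfl
  -- all summands of `Bᶜ`
  have hj : ∀ j ∉ B, fac M {j} ≤ X := by
    intro j hj v hv
    obtain ⟨t, ht, σ, hσ, h1⟩ := exists_move hA hB.compl (i := i) (j := j) hiB hj
    rw [So_compl hA hB] at ht
    have h2 := (hσ.inv M hA (hA.TH ht.1)).conj M hA (inv_mem (hA.TH ht.1)) hv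
    have h3 : σ.symm '' {j} = {i} := by
      rw [Set.image_singleton, ← h1, σ.symm_apply_apply]
    rw [h3] at h2
    have h4 := hi h2
    have h5 := (mem_normalizer_iff.1 (hLX (So_le_LL hA hB hc ht)) _).1 h4
    have h6 : t * (t⁻¹ * v * t⁻¹⁻¹) * t⁻¹ = v := by group
    rwa [h6] at h5
  -- everything
  have hall : ∀ s : Finset (Fin k), ∀ v ∈ fac M Bᶜ, (∀ j, j ∉ s → M.e v j = 0) → v ∈ X := by
    intro s
    induction s using Finset.induction_on with
    | empty =>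
      intro v hv h
      have : v = 1 := eq_one M hv.1 (funext fun j => h j (Finset.notMem_empty j))
      rw [this]
      exact one_mem X
    | insert a s has ih =>
      intro v hv h
      obtain ⟨w, hw, hwa⟩ := exists_fac M {a} (M.e v)
      have hwa := hwa a rfl
      have hwX : w ∈ X := by
        by_cases ha : a ∈ B
        · have : w = 1 := by
            apply eq_one M hw.1
            funext j
            by_cases hja : j = a
            · rw [hja, hwa]
              exact hv.2 a fun h' => h' ha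
            · exact hw.2 j hja
          rw [this]
          exact one_mem X
        · exact hj a ha hw
      have h1 : v * w⁻¹ ∈ X := by
        have hvw : ∀ j, M.e (v * w⁻¹) j = M.e v j - M.e w j := fun j => by
          rw [M.mul v hv.1 _ (inv_mem hw.1), e_inv M hw.1, Pi.add_apply, Pi.neg_apply, sub_eq_add_neg]
        have hz' : ∀ j, M.e v j = 0 → M.e (v * w⁻¹) j = 0 := fun j hj0 => by
          rw [hvw, hj0]
          by_cases hja : j = a
          · rw [hja, hwa, ← hja, hj0, sub_zero]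
          · rw [hw.2 j hja, sub_zero]
        refine ih _ ⟨mul_mem hv.1 (inv_mem hw.1), fun j hj0 => hz' j (hv.2 j hj0)⟩ fun j hjs => ?_
        by_cases hja : j = a
        · rw [hvw, hja, hwa, sub_self]
        · exact hz' j (h j fun h' => (Finset.mem_insert.1 h').elim hja hjs)
      have h2 : v = v * w⁻¹ * w := by group
      rw [h2]
      exact mul_mem h1 hwX
  exact le_antisymm hX fun v hv => hall Finset.univ v hv fun j h => absurd (Finset.mem_univ j) h


omit hB in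
theorem nt {z : G} (hz : z ∈ fac M B) : fac M Bᶜ ⊓ centralizer (LL M B z : Set G) = ⊥ := by
  classical
  rw [eq_bot_iff]
  rintro v ⟨hv, hvc⟩
  rw [mem_bot]
  apply eq_one M hv.1
  funext i
  by_cases hi : i ∈ B
  · exact hv.2 i fun h => h hi
  by_contra h0
  obtain ⟨y, hy0, hy1⟩ := exists_ne_ne (M.e v i)
  obtain ⟨A, hAy⟩ := exists_ap (x := M.e v i) h0 hy0
  obtain ⟨g, hg, hgv⟩ := exists_LL hA hz hi A
  have h1 := mem_centralizer_iff.1 hvc g hg
  have h2 : g * v * g⁻¹ = v := by rw [h1]; group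
  have h3 := (hgv v hv.1).1
  rw [h2, hAy] at h3
  exact hy1 h3.symm

/-- the component in `fac M Bᶜ` -/
theorem exists_comp {v : G} (hv : v ∈ V) (hvT : ∀ t ∈ T, t * v = v * t) :
    ∃ p : (fac M Bᶜ ⊓ centralizer (So M B : Set G) : Subgroup G), v * (p : G)⁻¹ ∈ fac M B := by
  obtain ⟨p, hp, hpv⟩ := exists_fac M Bᶜ (M.e v)
  have hq : v * p⁻¹ ∈ fac M B := by
    refine ⟨mul_mem hv (inv_mem hp.1), fun i hi => ?_⟩
    rw [M.mul v hv _ (inv_mem hp.1), e_inv M hp.1, Pi.add_apply, Pi.neg_apply, hpv i hi, add_neg_cancel]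
  refine ⟨⟨p, hp, mem_centralizer_iff.2 fun t ht => ?_⟩, hq⟩
  have h1 : t * p * t⁻¹ ∈ fac M Bᶜ := by
    have ht' : t ∈ So M Bᶜ := by rw [So_compl hA hB]; exact ht
    exact (mem_normalizer_iff.1 ht'.2 p).1 hp
  have h2 : t * (v * p⁻¹) * t⁻¹ ∈ fac M B := (mem_normalizer_iff.1 ht.2 _).1 hq
  have h3 : t * v * t⁻¹ = v := by rw [hvT t ht.1]; group
  have h4 : (t * p * t⁻¹) * p⁻¹ = (t * (v * p⁻¹) * t⁻¹)⁻¹ * (v * p⁻¹) := by
    have e1 : t * (v * p⁻¹) * t⁻¹ = (t * v * t⁻¹) * (t * p * t⁻¹)⁻¹ := by group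
    rw [e1, h3]
    group
  have h5 : (t * p * t⁻¹) * p⁻¹ = 1 := by
    refine fac_inf_compl M (B := B) ?_ (mul_mem h1 (inv_mem hp))
    rw [h4]
    exact mul_mem (inv_mem h2) hq
  calc t * p = ((t * p * t⁻¹) * p⁻¹) * p * t := by group
    _ = p * t := by rw [h5, one_mul]

theorem card_zc_le [Finite G] :
    Nat.card (zc T) ≤ Nat.card (fac M Bᶜ ⊓ centralizer (So M B : Set G) : Subgroup G) := by
  have hex : ∀ v : zc T, ∃ p : (fac M Bᶜ ⊓ centralizer (So M B : Set G) : Subgroup G),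
      (v : G) * (p : G)⁻¹ ∈ fac M B := fun v =>
    exists_comp hA hB (hA.zc v.2) (mem_zc.1 v.2).2.1
  choose f hf using hex
  refine Nat.card_le_card_of_injective f fun v w hvw => ?_
  have h1 := hf v
  have h2 := hf w
  rw [← hvw] at h2
  have h3 : (v : G) * (w : G)⁻¹ ∈ fac M B := by
    have := mul_mem h1 (inv_mem h2)
    have e : (v : G) * (f v : G)⁻¹ * ((w : G) * (f v : G)⁻¹)⁻¹ = (v : G) * (w : G)⁻¹ := by group
    rwa [e] at this
  -- an element of `fac M B` centralised by `T` is trivial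
  have h4 : ((v : G) * (w : G)⁻¹) = 1 := by
    have hc : ∀ t ∈ T, t * ((v : G) * (w : G)⁻¹) * t⁻¹ = (v : G) * (w : G)⁻¹ := by
      intro t ht
      have e1 := (mem_zc.1 v.2).2.1 t ht
      have e2 := (mem_zc.1 w.2).2.1 t ht
      calc t * ((v : G) * (w : G)⁻¹) * t⁻¹ = (t * v) * (t * w)⁻¹ := by group
        _ = (v : G) * (w : G)⁻¹ := by rw [e1, e2]; group
    apply eq_one M h3.1
    obtain ⟨j, hj⟩ := hB.ne'
    funext i
    obtain ⟨t, ht, h5⟩ := M.trans i j
    have h6 := h5 _ h3.1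
    rw [hc t ht] at h6
    exact h6.1 (h3.2 j hj)
  exact Subtype.ext (mul_inv_eq_one.1 h4)

end blk

/-! ### The theorem -/

section main

/-- Conjugation of the conclusion. -/
theorem concl_cj {z u g : G} {U : Subgroup G} (hzu : g * z * g⁻¹ = u) (hU : g ∈ normalizer (U : Set G))
    (h : U ≤ o2 (centralizer ({z} : Set G)) ∧ o2 (centralizer ({z} : Set G)) ≤ centralizer (U : Set G)) :
    U ≤ o2 (centralizer ({u} : Set G)) ∧ o2 (centralizer ({u} : Set G)) ≤ centralizer (U : Set G) := by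
  have h1 : centralizer ({u} : Set G) = cj g (centralizer ({z} : Set G)) := by
    ext x
    rw [mem_cj, mem_centralizer_singleton_iff, mem_centralizer_singleton_iff, ← hzu]
    constructor
    · intro hx
      calc g⁻¹ * x * g * z = g⁻¹ * (x * (g * z * g⁻¹)) * g := by group
        _ = g⁻¹ * (g * z * g⁻¹ * x) * g := by rw [hx]
        _ = z * (g⁻¹ * x * g) := by group
    · intro hx
      calc x * (g * z * g⁻¹) = g * (g⁻¹ * x * g * z) * g⁻¹ := by group
        _ = g * (z * (g⁻¹ * x * g)) * g⁻¹ := by rw [hx]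
        _ = g * z * g⁻¹ * x := by group
  have h2 := cj_eq_of_mem_normalizer hU
  rw [h1, ChoiceSit.o2_cj]
  constructor
  · rw [← h2]
    exact cj_mono g h.1
  · rw [← h2, ← cj_centralizer]
    exact cj_mono g h.2

variable [Finite G] (hG : IsCharacteristicTwoType G) (S : Sylow 2 G) {P : Subgroup G}
  {M : NatK F (S : Subgroup G) P V ⊥ k} {B : Set (Fin k)}

include hG

/-- **APPLICATIONS 1 and 3.** -/
theorem app_nat (hA : Amb (S : Subgroup G) P V) (hB : Blk M B) {u : G} (hu : u ∈ fac M B)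
    (hfull : ∀ i ∈ B, M.e u i ≠ 0) :
    fac M Bᶜ ≤ o2 (centralizer ({u} : Set G)) ∧
      o2 (centralizer ({u} : Set G)) ≤ centralizer (fac M Bᶜ : Set G) := by
  classical
  obtain ⟨i₀, hi₀⟩ := hB.ne
  have hS2 : IsPGroup 2 (S : Subgroup G) := S.isPGroup'
  have hSo2 : IsPGroup 2 (So M B) := hS2.to_le inf_le_left
  obtain ⟨z, hz, hz1, hc⟩ := exists_fixed ((hS2.to_le hA.VT).to_le (fac_le M B)) (fac_ne_bot hi₀) hSo2
    (inf_le_right : So M B ≤ normalizer (fac M B : Set G))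
  have hVSo : V ≤ So M B := by
    refine le_inf hA.VT fun v hv => ?_
    rw [mem_normalizer_iff]
    intro x
    constructor
    · intro hx
      have : v * x * v⁻¹ = x := by rw [hA.comm v hv x hx.1]; group
      rwa [this]
    · intro hx
      have h1 := hA.comm v hv _ hx.1
      have h2 : x = v * x * v⁻¹ := by
        have h3 : v * (v * x * v⁻¹) = v * x := by rw [h1]; group
        exact (mul_left_cancel h3).symm
      rwa [h2]
  have hmain := gen hG S (P := P) (So := So M B) (L := LL M B z) (U := fac M Bᶜ) (z := z) hA.TH inf_le_left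
    (card_So hA hB) hz1 (hA.sq z hz.1) (hVSo hz.1) (So_le_LL hA hB hc) (inf_le_left.trans inf_le_left)
    (fun x hx => mem_centralizer_singleton_iff.1 hx.1.2)
    (fun g hg => fus hA hB hz hz1 hc hg) ((fac_le M _).trans hVSo) inf_le_right
    (fun a ha b hb => hA.comm a ha.1 b hb.1) (fun a ha => hA.sq a ha.1)
    (fun X hX hLX => (eq_or_ne X ⊥).imp_right fun h => irr hA hB hz hc X hX hLX h)
    (nt hA hz) (card_zc_le hA hB)
  -- transport to `u`
  have hex : ∀ i, ∃ A : Matrix.SpecialLinearGroup (Fin 2) F,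
      (i ∈ B → ap A (M.e z i) = M.e u i) ∧ (i ∉ B → A = 1) := by
    intro i
    by_cases hi : i ∈ B
    · obtain ⟨A, hAi⟩ := exists_ap (full hA hB hz hz1 hc hi) (hfull i hi)
      exact ⟨A, fun _ => hAi, fun h => absurd hi h⟩
    · exact ⟨1, fun h => absurd h hi, fun _ => rfl⟩
  choose A hAB hA1 using hex
  obtain ⟨g, hg, hgA, -⟩ := M.lift A
  have hzu : g * z * g⁻¹ = u := by
    apply inj M (hA.conj_mem hg hz.1) hu.1
    funext i
    rw [hgA z hz.1 i]
    by_cases hi : i ∈ B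
    · exact hAB i hi
    · rw [hz.2 i hi, hu.2 i hi, ap_zero]
  refine concl_cj hzu ?_ hmain
  have hfix : ∀ v ∈ fac M Bᶜ, g * v * g⁻¹ = v := by
    intro v hv
    apply inj M (hA.conj_mem hg hv.1) hv.1
    funext i
    rw [hgA v hv.1 i]
    by_cases hi : i ∈ B
    · rw [hv.2 i fun h => h hi, ap_zero]
    · rw [hA1 i hi, ap_one]
  refine mem_normalizer_of_cj_le fun x hx => ?_
  rw [mem_cj] at hx
  have := hfix _ hx
  have e : g * (g⁻¹ * x * g) * g⁻¹ = x := by group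
  rw [e] at this
  rwa [this]

/-! ### Existence of blocks -/

omit [Finite G] hG in
theorem e_unique {g : G} {σ ρ : Equiv.Perm (Fin k)} (hA : Amb (S : Subgroup G) P V) (h1 : Mv M g σ) (h2 : Mv M g ρ)
    (hg : g ∈ P) : σ = ρ := by
  ext1 i
  exact h1.unique M hA hg fun v hv => h2 v hv i

omit hG in
theorem exists_blk (M : NatK F (S : Subgroup G) P V ⊥ k) (hA : Amb (S : Subgroup G) P V) (hk : 2 ≤ k) (i : Fin k) :
    ∃ B : Set (Fin k), Blk M B ∧ i ∈ B := by
  obtain ⟨j, hij⟩ : ∃ j : Fin k, i ≠ j := by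
    have : Nontrivial (Fin k) := Fin.nontrivial_iff_two_le.2 hk
    obtain ⟨j, hj⟩ := _root_.exists_ne i
    exact ⟨j, hj.symm⟩
  have hmulA : ∀ g ∈ P, ∀ h ∈ P, ∀ σ ρ, Mv M g σ → Mv M h ρ → Mv M (g * h) (σ * ρ) := by
    intro g _ h hh σ ρ h1 h2 v hv i
    have e1 : g * h * v * (g * h)⁻¹ = g * (h * v * h⁻¹) * g⁻¹ := by group
    rw [e1, Equiv.Perm.mul_apply, h1 _ (hA.conj_mem hh hv), h2 v hv]
  obtain ⟨B, -, hi, hne, hblk⟩ := exists_blocks S.isPGroup' (R := fun t σ => Mv M t σ)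
    (Ω₀ := (Set.univ : Set (Fin k))) (fun t ht => M.perm t (hA.TH ht))
    (fun v _ i => by rw [one_mul, inv_one, mul_one]; rfl)
    (fun s hs t ht σ σ' h1 h2 => hmulA s (hA.TH hs) t (hA.TH ht) σ σ' h1 h2)
    (fun t ht σ h => h.inv M hA (hA.TH ht))
    (fun t ht σ σ' h1 h2 => e_unique S hA h1 h2 (hA.TH ht))
    (fun t ht π h p hp => trivial)
    (fun i _ j _ => by
      obtain ⟨t, ht, h1⟩ := M.trans i j
      obtain ⟨σ, hσ⟩ := exists_mv (M := M) hA ht
      exact ⟨t, ht, σ, hσ, hσ.unique M hA (hA.TH ht) h1⟩)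
    (p₀ := i) (p₁ := j) trivial trivial hij
  refine ⟨B, ⟨⟨i, hi⟩, ?_, fun t ht σ h => ?_⟩, hi⟩
  · rwa [Set.compl_eq_univ_sdiff]
  · rw [Set.compl_eq_univ_sdiff]
    exact hblk t ht σ h

/-! ### Two summands -/

omit [Finite G] hG in
theorem blk_two (M : NatK F T H V ⊥ 2) (i : Fin 2) : Blk M {i} := by
  have hcompl : ∀ i : Fin 2, ({i} : Set (Fin 2))ᶜ = {1 - i} := by
    intro i
    ext j
    simp only [Set.mem_compl_iff, Set.mem_singleton_iff]
    revert i j
    decide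
  refine ⟨⟨i, rfl⟩, by rw [hcompl]; exact ⟨_, rfl⟩, fun t _ σ _ => ?_⟩
  rw [hcompl, Set.image_singleton, Set.singleton_eq_singleton_iff, Set.singleton_eq_singleton_iff]
  generalize σ i = x
  revert i x
  decide

/-- **APPLICATION 1.** `k = 2`: for `1 ≠ v ∈ V_i` the other summand `V_j` lies in `Z(O₂(C_G(v)))`. -/
theorem app_two (M : NatK F (S : Subgroup G) P V ⊥ 2) (hA : Amb (S : Subgroup G) P V) {i j : Fin 2} (hij : i ≠ j)
    {v : G} (hv : v ∈ fac M {i}) (hv1 : v ≠ 1) :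
    fac M {j} ≤ o2 (centralizer ({v} : Set G)) ∧
      o2 (centralizer ({v} : Set G)) ≤ centralizer (fac M {j} : Set G) := by
  have hcompl : ({i} : Set (Fin 2))ᶜ = {j} := by
    ext x
    simp only [Set.mem_compl_iff, Set.mem_singleton_iff]
    clear hv
    revert i j x
    decide
  have h := app_nat hG S hA (blk_two M i) hv fun x hx h0 => hv1 (eq_one M hv.1 (funext fun y => by
    by_cases hy : y = i
    · rw [hy, ← (show x = i from hx)]
      exact h0
    · exact hv.2 y hy))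
  rwa [hcompl] at h

/-- The same with `P ∈ L(S)`, `V = V_P`. -/
theorem app_two' (M : NatK F (S : Subgroup G) P (zl (S : Subgroup G) P) ⊥ 2) (hP : IsLoc (S : Subgroup G) P)
    {i j : Fin 2} (hij : i ≠ j) {v : G} (hv : v ∈ zl (S : Subgroup G) P) (hvi : ∀ x, x ≠ i → M.e v x = 0)
    (hv1 : v ≠ 1) {w : G} (hw : w ∈ zl (S : Subgroup G) P) (hwj : ∀ x, x ≠ j → M.e w x = 0) :
    w ∈ o2 (centralizer ({v} : Set G)) ∧ w ∈ centralizer (o2 (centralizer ({v} : Set G)) : Set G) := by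
  obtain ⟨h1, h2⟩ := app_two hG S M (amb_of_loc hG S hP) hij (v := v) ⟨hv, hvi⟩ hv1
  exact ⟨h1 ⟨hw, hwj⟩, le_centralizer_iff.1 h2 ⟨hw, hwj⟩⟩

end main

end NatA

end Cfsg.Agent.Omega.Half
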