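import Cfsg.Agent.Omega.Half.Basic

/-!
# HALF LEMMA, consumer form (project OMEGA, job 168)

`G` of characteristic 2 type, `S ≤ P` a Sylow 2-subgroup of `G`, `So ≤ S` of index 2, `z ∈ Z(So)` an involution which
is not `P`-conjugate into `Z(S)`, `So ≤ L ≤ C_P(z)`, `U ≤ So` elementary abelian, normal in `L`, irreducible and
nontrivial for `L`, `|C_U(So)| ≥ |Ω₁ Z(S)|`. Then `U ≤ Z(O₂(C_G(z)))` (`gen`).
-/

set_option autoImplicit false

namespace Cfsg.Agent.Omega.Half

open Subgroup Cfsg Cfsg.Agent.ZN Cfsg.Agent.MinSimple.VModule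
open Cfsg.Agent.MinSimple.MinParabolic Cfsg.Agent.MinSimple.Basic

universe u

variable {G : Type u} [Group G]

/-- `So` is a Sylow 2-subgroup of `L`. -/
theorem not_dvd_of_fus [Finite G] (S : Sylow 2 G) {P So L : Subgroup G} {z : G} (hSP : (S : Subgroup G) ≤ P)
    (hSo : So ≤ (S : Subgroup G)) (hidx : Nat.card (S : Subgroup G) = 2 * Nat.card So) (hSoL : So ≤ L) (hLP : L ≤ P)
    (hLz : ∀ x ∈ L, x * z = z * x)
    (hfus : ∀ g ∈ P, ¬ ∀ s ∈ (S : Subgroup G), s * (g * z * g⁻¹) = g * z * g⁻¹ * s) : ¬ 2 ∣ So.relIndex L := by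
  have : Fact (Nat.Prime 2) := ⟨Nat.prime_two⟩
  intro hdvd
  obtain ⟨T, hSoT, hTL, hT2, hTS⟩ := exists_sylow_le (S.isPGroup'.to_le hSo) hSoL
  -- `So < T`
  have hne : So.relIndex T ≠ 1 := by
    intro h1
    apply hTS
    rw [relIndex_eq_one] at h1
    rwa [le_antisymm h1 hSoT]
  have hrel : Nat.card So * So.relIndex T = Nat.card T := card_mul_relIndex hSoT
  have hT0 : So.relIndex T ≠ 0 := fun h => by
    rw [h, mul_zero] at hrel
    exact Nat.card_pos.ne hrel
  have hcT : Nat.card (S : Subgroup G) ≤ Nat.card T := by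
    rw [hidx, ← hrel, mul_comm]
    exact Nat.mul_le_mul_left _ (by omega)
  -- `T` is a Sylow 2-subgroup of `G`, conjugate to `S` in `P`
  obtain ⟨Q, hQ⟩ := hT2.exists_le_sylow
  have hQT : T = (Q : Subgroup G) := by
    refine eq_of_le_of_card_ge hQ ?_
    exact (card_le_sylow S Q.isPGroup').trans hcT
  have hTP : T ≤ P := hTL.trans hLP
  obtain ⟨g, hg⟩ := MulAction.exists_smul_eq P (Q.subtype (hQT ▸ hTP)) (S.subtype hSP)
  refine hfus g g.2 fun s hs => ?_
  have h1 : (⟨s, hSP hs⟩ : P) ∈ ((g • (Q.subtype (hQT ▸ hTP)) : Sylow 2 P) : Subgroup P) := by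
    rw [hg]
    exact hs
  have h2 : g⁻¹ * ⟨s, hSP hs⟩ * g ∈ ((Q.subtype (hQT ▸ hTP) : Sylow 2 P) : Subgroup P) := by
    rw [Sylow.coe_subgroup_smul, Subgroup.mem_pointwise_smul_iff_inv_smul_mem] at h1
    simpa [MulAut.smul_def] using h1
  have h3 : (g : G)⁻¹ * s * g ∈ T := by
    rw [hQT]
    exact h2
  have h4 := hLz _ (hTL h3)
  calc s * ((g : G) * z * (g : G)⁻¹) = g * (((g : G)⁻¹ * s * g) * z) * (g : G)⁻¹ := by group
    _ = g * (z * ((g : G)⁻¹ * s * g)) * (g : G)⁻¹ := by rw [h4]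
    _ = g * z * (g : G)⁻¹ * s := by group

/-- **HALF LEMMA, consumer form.** -/
theorem gen [Finite G] (hG : IsCharacteristicTwoType G) (S : Sylow 2 G) {P So L U : Subgroup G} {z : G}
    (hSP : (S : Subgroup G) ≤ P) (hSo : So ≤ (S : Subgroup G))
    (hidx : Nat.card (S : Subgroup G) = 2 * Nat.card So) (hz1 : z ≠ 1) (hz2 : z ^ 2 = 1) (hz : z ∈ So)
    (hSoL : So ≤ L) (hLP : L ≤ P) (hLz : ∀ x ∈ L, x * z = z * x)
    (hfus : ∀ g ∈ P, ¬ ∀ s ∈ (S : Subgroup G), s * (g * z * g⁻¹) = g * z * g⁻¹ * s)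
    (hUS : U ≤ So) (hLU : L ≤ normalizer (U : Set G))
    (hcomm : ∀ a ∈ U, ∀ b ∈ U, a * b = b * a) (hsq : ∀ a ∈ U, a ^ 2 = 1)
    (hirr : ∀ X : Subgroup G, X ≤ U → L ≤ normalizer (X : Set G) → X = ⊥ ∨ X = U)
    (hnt : U ⊓ centralizer (L : Set G) = ⊥)
    (hcard : Nat.card (zc (S : Subgroup G)) ≤ Nat.card (U ⊓ centralizer (So : Set G) : Subgroup G)) :
    U ≤ o2 (centralizer ({z} : Set G)) ∧ o2 (centralizer ({z} : Set G)) ≤ centralizer (U : Set G) := by
  have : Fact (Nat.Prime 2) := ⟨Nat.prime_two⟩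
  have hU2 : IsPGroup 2 U := (S.isPGroup'.to_le hSo).to_le hUS
  refine half S hSo hidx hz1 hz2 hz (fun x hx => mem_centralizer_singleton_iff.1 hx)
    (char2_centralizer hG hz2 hz1) hSoL (fun x hx => mem_centralizer_singleton_iff.2 (hLz x hx))
    (not_dvd_of_fus S hSP hSo hidx hSoL hLP hLz hfus) hUS hLU hcomm hsq hirr hnt ?_ hcard
  -- `O₂(L)` centralises `U`
  by_cases hU : U = ⊥
  · rw [hU]
    intro x _
    rw [mem_centralizer_iff]
    intro y hy
    rw [SetLike.mem_coe, mem_bot] at hy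
    rw [hy, one_mul, mul_one]
  have hL2 : o2 L ≤ normalizer (U : Set G) := (o2_le L).trans hLU
  obtain ⟨v, hv, hv1, hvc⟩ := exists_fixed hU2 hU (o2_isPGroup L) hL2
  have hinv : L ≤ normalizer ((U ⊓ centralizer (o2 L : Set G) : Subgroup G) : Set G) := by
    refine le_normalizer_inf hLU ?_
    have h1 : normalizer (o2 L : Set G) ≤ normalizer (centralizer (o2 L : Set G) : Set G) := by
      have key : ∀ g ∈ normalizer (o2 L : Set G), ∀ x ∈ centralizer (o2 L : Set G),
          g * x * g⁻¹ ∈ centralizer (o2 L : Set G) := by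
        intro g hg x hx
        rw [mem_centralizer_iff]
        intro y hy
        have hy' : g⁻¹ * y * g ∈ o2 L := by
          have := (mem_normalizer_iff.1 (inv_mem hg) y).1 hy
          rwa [inv_inv] at this
        have h2 := mem_centralizer_iff.1 hx _ hy'
        calc y * (g * x * g⁻¹) = g * ((g⁻¹ * y * g) * x) * g⁻¹ := by group
          _ = g * (x * (g⁻¹ * y * g)) * g⁻¹ := by rw [h2]
          _ = g * x * g⁻¹ * y := by group
      intro g hg
      rw [mem_normalizer_iff]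
      intro x
      refine ⟨key g hg x, fun h => ?_⟩
      have := key g⁻¹ (inv_mem hg) _ h
      simpa [mul_assoc] using this
    exact (le_normalizer_o2 L).trans h1
  rcases hirr _ inf_le_left hinv with h1 | h1
  · exfalso
    apply hv1
    have h2 : v ∈ U ⊓ centralizer (o2 L : Set G) := by
      refine ⟨hv, mem_centralizer_iff.2 fun t ht => ?_⟩
      have h3 := hvc t ht
      calc t * v = (t * v * t⁻¹) * t := by group
        _ = v * t := by rw [h3]
    rwa [h1, mem_bot] at h2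
  · intro x hx
    rw [mem_centralizer_iff]
    intro y hy
    have h2 : y ∈ U ⊓ centralizer (o2 L : Set G) := by rw [h1]; exact hy
    exact (mem_centralizer_iff.1 h2.2 x hx).symm

end Cfsg.Agent.Omega.Half
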